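import Cfsg.Agent.H240.QuadExc
import Cfsg.Agent.H208.QuadAll
import Cfsg.Agent.H979.LieSplit
import Cfsg.Prelude.Def_AlmostLie

/-!
# `Quad` in the groups of Lie type of odd characteristic and rank at least two (helper240)

* `qrow` : `QRow p L` for `L` simple of Lie type in odd characteristic `p` of Lie rank at least two;
* `exists_quad` : a Sylow `p`-subgroup `P` of `K` normalising `L ≤ K` centralises an element `z ∈ L` of order `p` with
  `Quad p L z`.
-/

set_option autoImplicit false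

namespace Cfsg.Agent.H240.QuadMain

open Subgroup Cfsg Cfsg.Agent.FixBN
open Cfsg.Agent.H238 (Quad)
open Cfsg.Agent.H240.QuadRow

universe u

theorem dvd_card_of_hasSplit {K : Type u} [Group K] [Finite K] {p : ℕ} [hp : Fact p.Prime] (h : HasSplit p K) :
    p ∣ Nat.card K := by
  obtain ⟨P, U, ⟨s, hs⟩, h⟩ := h
  obtain ⟨V, hV⟩ := h.node s hs
  obtain ⟨u, hu, huV⟩ := hV.ne
  obtain ⟨k, hk⟩ := h.isP ⟨u, hu⟩
  have h1 : u ^ p ^ k = 1 := by simpa using congrArg Subtype.val hk
  obtain ⟨j, hj, hj2⟩ := (Nat.dvd_prime_pow hp.1).1 (orderOf_dvd_of_pow_eq_one h1)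
  have h3 : p ∣ orderOf u := by
    rw [hj2]
    apply dvd_pow_self
    rintro rfl
    rw [pow_zero, orderOf_eq_one_iff] at hj2
    exact huV (by rw [hj2]; exact one_mem _)
  exact h3.trans (orderOf_dvd_natCard u)

/-- **`QRow` for the groups of Lie type of odd characteristic and rank at least two.** -/
theorem qrow {p : ℕ} [hp : Fact p.Prime] (hp2 : p ≠ 2) {L : Type u} [Group L] [Finite L] [IsSimpleGroup L]
    (h : IsLieRankAtLeastTwoChar p L) : QRow p L := by
  obtain ⟨h, h1⟩ := h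
  rcases h with h | ⟨rfl, -⟩ | ⟨rfl, h⟩
  · have hd : p ∣ Nat.card L := dvd_card_of_hasSplit (H979.LieSplit.hasSplit_of_isLieTypeChar hp.out h)
    have hcl : (IsPSLChar p L ∨ IsPSpChar p L ∨ IsPSUChar p L ∨ IsPOmegaOddChar p L ∨ IsPOmegaPlusChar p L ∨
        IsPOmegaMinusChar p L) → QRow p L := fun hc =>
      QRow.of_center hd default fun z hz hzp hzc => H208.QuadAll.quad_classical hp2 h1 hc default hz hzp hzc
    rcases h with h | h | h | h | h | h | h | h | ⟨h, -⟩ | ⟨h, -⟩ | ⟨h3, h⟩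
    · exact hcl (Or.inl h)
    · exact hcl (Or.inr (Or.inl h))
    · exact hcl (Or.inr (Or.inr (Or.inl h)))
    · exact hcl (Or.inr (Or.inr (Or.inr (Or.inl h))))
    · exact hcl (Or.inr (Or.inr (Or.inr (Or.inr (Or.inl h)))))
    · exact hcl (Or.inr (Or.inr (Or.inr (Or.inr (Or.inr h)))))
    · exact QuadExc.of_exceptional hp2 h
    · exact QuadExc.of_twisted hp2 h
    · exact absurd h hp2
    · exact absurd h hp2
    · exact absurd (Or.inr (Or.inr (Or.inr ⟨h3, Or.inl h⟩))) h1
  · exact absurd rfl hp2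
  · exact absurd (Or.inr (Or.inr (Or.inr ⟨rfl, Or.inr h⟩))) h1

/-- **A central element of order `p` with `Quad`.** -/
theorem exists_quad {K : Type u} [Group K] [Finite K] {p : ℕ} [Fact p.Prime] (hp2 : p ≠ 2) {L : Subgroup K}
    (hL : IsSimpleGroup ↥L) (hr : IsLieRankAtLeastTwoChar p ↥L) (P : Sylow p K)
    (hP : (P : Subgroup K) ≤ normalizer (L : Set K)) :
    ∃ z ∈ L, orderOf z = p ∧ (P : Subgroup K) ≤ centralizer ({z} : Set K) ∧ Quad p L z :=
  exists_quad_of_row (qrow hp2 hr) P hP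

end Cfsg.Agent.H240.QuadMain
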