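import Mathlib

/-!
# Lower bound for the order of a faithful irreducible module of a group of central type

`E` finite with `[E, E] ≤ Z(E)`, `|Z(E)| = p`, `|E / Z(E)| = p ^ (2 w)`, acting irreducibly on a
finite additive group `V` killed by the prime `r`, the centre acting non-trivially:
`|V| ≥ r ^ (n p ^ w)` when `n` is least with `p ∣ r ^ n - 1`.
-/

set_option autoImplicit false

namespace Cfsg.Agent.H240.ExtraBound

open Subgroup
open scoped commutatorElement

section Core

variable {E V : Type*} [Group E] [AddCommGroup V] [DistribMulAction E V]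

/-- The action on `V`. -/
abbrev rho (E V : Type*) [Group E] [AddCommGroup V] [DistribMulAction E V] :
    E →* AddMonoid.End V := DistribMulAction.toAddMonoidEnd E V

theorem rho_apply (e : E) (v : V) : rho E V e v = e • v := rfl

theorem comm_of_mem (E V : Type*) [Group E] [AddCommGroup V] [DistribMulAction E V] :
    ∀ a ∈ (rho E V) '' (center E : Set E), ∀ b ∈ (rho E V) '' (center E : Set E), a * b = b * a := by
  rintro _ ⟨a, ha, rfl⟩ _ ⟨b, hb, rfl⟩
  rw [← map_mul, ← map_mul, mem_center_iff.mp hb a]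

/-- The ring generated by the centre. -/
abbrev KK (E V : Type*) [Group E] [AddCommGroup V] [DistribMulAction E V] :
    Subring (AddMonoid.End V) := Subring.closure ((rho E V) '' (center E : Set E))

theorem comm_rho (k : KK E V) (e : E) : (k : AddMonoid.End V) * rho E V e = rho E V e * k := by
  have h : KK E V ≤ Subring.centralizer (Set.range (rho E V)) := by
    rw [Subring.closure_le]
    rintro _ ⟨z, hz, rfl⟩
    rw [SetLike.mem_coe, Subring.mem_centralizer_iff]
    rintro _ ⟨e, rfl⟩
    rw [← map_mul, ← map_mul, mem_center_iff.mp hz e]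
  exact ((Subring.mem_centralizer_iff.mp (h k.2)) _ ⟨e, rfl⟩).symm

theorem smul_comm_rho (k : KK E V) (e : E) (v : V) :
    (k : AddMonoid.End V) (e • v) = e • ((k : AddMonoid.End V) v) := by
  have h1 : ((k : AddMonoid.End V) * rho E V e) v = (rho E V e * k) v := by rw [comm_rho]
  exact h1

/-- Kernel of an element of the ring. -/
def kerK (k : KK E V) : AddSubgroup V where
  carrier := {v | (k : AddMonoid.End V) v = 0}
  zero_mem' := map_zero _
  add_mem' := by
    intro a b ha hb
    rw [Set.mem_ofPred_eq] at ha hb ⊢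
    rw [map_add, ha, hb, add_zero]
  neg_mem' := by
    intro a ha
    rw [Set.mem_ofPred_eq] at ha ⊢
    rw [map_neg, ha, neg_zero]

theorem mem_kerK {k : KK E V} {v : V} : v ∈ kerK k ↔ (k : AddMonoid.End V) v = 0 := Iff.rfl

theorem injective_of_ne (hirr : ∀ W : AddSubgroup V, (∀ e : E, ∀ w ∈ W, e • w ∈ W) → W = ⊥ ∨ W = ⊤)
    (k : KK E V) (hk : k ≠ 0) : ∀ v : V, (k : AddMonoid.End V) v = 0 → v = 0 := by
  have h := hirr (kerK k) (by
    intro e w hw
    rw [mem_kerK] at hw ⊢
    rw [smul_comm_rho, hw, smul_zero])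
  rcases h with h | h
  · intro v hv
    have : v ∈ kerK k := hv
    rw [h] at this
    exact this
  · exact absurd (Subtype.ext (AddMonoidHom.ext fun v => by
      have : v ∈ kerK k := by rw [h]; trivial
      exact this)) hk

/-- The commutative ring structure. -/
noncomputable abbrev commRing (E V : Type*) [Group E] [AddCommGroup V] [DistribMulAction E V] :
    CommRing (KK E V) :=
  { (inferInstance : Ring (KK E V)) with
    mul_comm := by
      intro a b
      have h : KK E V ≤ Subring.centralizer (KK E V : Set (AddMonoid.End V)) := by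
        rw [Subring.closure_le]
        intro x hx
        rw [SetLike.mem_coe, Subring.mem_centralizer_iff]
        intro y hy
        obtain ⟨e, _, rfl⟩ := hx
        exact comm_rho ⟨y, hy⟩ e
      exact Subtype.ext ((Subring.mem_centralizer_iff.mp (h b.2)) _ a.2) }

theorem noZero (hirr : ∀ W : AddSubgroup V, (∀ e : E, ∀ w ∈ W, e • w ∈ W) → W = ⊥ ∨ W = ⊤) :
    NoZeroDivisors (KK E V) := ⟨by
  intro a b hab
  by_cases ha : a = 0
  · exact Or.inl ha
  · right
    refine Subtype.ext (AddMonoidHom.ext fun v => ?_)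
    refine injective_of_ne hirr a ha _ ?_
    have h2 : ((a : AddMonoid.End V) * (b : AddMonoid.End V)) v = 0 := by
      have : ((a * b : KK E V) : AddMonoid.End V) v = 0 := by rw [hab]; rfl
      exact this
    exact h2⟩

theorem nontrivial' [Nontrivial V] : Nontrivial (KK E V) := by
  refine ⟨⟨0, 1, fun h => ?_⟩⟩
  obtain ⟨v, hv⟩ := exists_ne (0 : V)
  apply hv
  have h3 : ((0 : KK E V) : AddMonoid.End V) v = ((1 : KK E V) : AddMonoid.End V) v := by rw [h]
  exact h3.symm

/-- The field structure. -/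
noncomputable abbrev fieldK [Finite V] [Nontrivial V]
    (hirr : ∀ W : AddSubgroup V, (∀ e : E, ∀ w ∈ W, e • w ∈ W) → W = ⊥ ∨ W = ⊤) :
    Field (KK E V) :=
  letI : CommRing (KK E V) := commRing E V
  haveI := noZero hirr
  haveI := nontrivial' (E := E) (V := V)
  haveI : IsDomain (KK E V) := NoZeroDivisors.to_isDomain _
  haveI : Finite (AddMonoid.End V) := Finite.of_injective (fun f : AddMonoid.End V => (f : V → V))
    DFunLike.coe_injective
  (Finite.isField_of_domain (KK E V)).toField

/-- Central elements, in the ring. -/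
def zK (E V : Type*) [Group E] [AddCommGroup V] [DistribMulAction E V] (z : E) (hz : z ∈ center E) :
    KK E V := ⟨rho E V z, Subring.subset_closure ⟨z, hz, rfl⟩⟩

theorem zK_apply {z : E} (hz : z ∈ center E) (v : V) : (zK E V z hz : AddMonoid.End V) v = z • v := rfl

theorem comm_mul_left (hc : ∀ a b : E, ⁅a, b⁆ ∈ center E) (a b t : E) :
    ⁅a * b, t⁆ = ⁅a, t⁆ * ⁅b, t⁆ := by
  have h1 : ⁅a * b, t⁆ = a * ⁅b, t⁆ * a⁻¹ * ⁅a, t⁆ := by
    simp only [commutatorElement_def]; group
  have h2 : a * ⁅b, t⁆ * a⁻¹ = ⁅b, t⁆ := by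
    rw [mem_center_iff.mp (hc b t) a]; group
  rw [h1, h2, mem_center_iff.mp (hc b t) ⁅a, t⁆]

/-- The character of `E` with values in the ring attached to `t`. -/
noncomputable def chi (V : Type*) [AddCommGroup V] [DistribMulAction E V]
    (hc : ∀ a b : E, ⁅a, b⁆ ∈ center E) (t : E) : E →* KK E V where
  toFun e := zK E V ⁅e, t⁆ (hc e t)
  map_one' := Subtype.ext (AddMonoidHom.ext fun v => by
    change ⁅(1 : E), t⁆ • v = v
    rw [commutatorElement_one_left, one_smul])
  map_mul' a b := Subtype.ext (AddMonoidHom.ext fun v => by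
    change ⁅a * b, t⁆ • v = ⁅a, t⁆ • (⁅b, t⁆ • v)
    rw [comm_mul_left hc, mul_smul])

theorem eq_one_of_smul [Finite E] {p : ℕ} [hp : Fact p.Prime] (hZ : Nat.card (center E) = p)
    (hnt : ∃ z ∈ center E, ∃ v : V, z • v ≠ v) {z : E} (hz : z ∈ center E) (h : ∀ v : V, z • v = v) :
    z = 1 := by
  by_contra hne
  obtain ⟨z0, hz0, v, hv⟩ := hnt
  have h1 : (⟨z0, hz0⟩ : center E) ∈ zpowers (⟨z, hz⟩ : center E) :=
    mem_zpowers_of_prime_card hZ (fun h => hne (congrArg Subtype.val h))
  obtain ⟨k, hk⟩ := mem_zpowers_iff.mp h1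
  have h2 : z ^ k = z0 := congrArg Subtype.val hk
  apply hv
  rw [← h2]
  have h3 : z ∈ MulAction.stabilizer E v := h v
  exact (MulAction.stabilizer E v).zpow_mem h3 k

theorem chi_injective [Finite E] {p : ℕ} [hp : Fact p.Prime] (hZ : Nat.card (center E) = p)
    (hnt : ∃ z ∈ center E, ∃ v : V, z • v ≠ v) (hc : ∀ a b : E, ⁅a, b⁆ ∈ center E) {t t' : E}
    (h : chi V hc t = chi V hc t') : (QuotientGroup.mk t : E ⧸ center E) = QuotientGroup.mk t' := by
  rw [QuotientGroup.eq, mem_center_iff]
  intro e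
  have h1 : ⁅e, t⁆ = ⁅e, t'⁆ := by
    have h2 : (⁅e, t'⁆)⁻¹ * ⁅e, t⁆ = 1 := by
      refine eq_one_of_smul hZ hnt ((center E).mul_mem ((center E).inv_mem (hc e t')) (hc e t)) ?_
      intro v
      have h3 : chi V hc t e = chi V hc t' e := by rw [h]
      have h4 : ⁅e, t⁆ • v = ⁅e, t'⁆ • v := by
        have := congrArg (fun k : KK E V => (k : AddMonoid.End V) v) h3
        exact this
      rw [mul_smul, h4, inv_smul_smul]
    exact (inv_mul_eq_one.mp h2).symm
  simp only [commutatorElement_def] at h1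
  have h2 : t * e⁻¹ * t⁻¹ = t' * e⁻¹ * t'⁻¹ := by
    have h5 : e * (t * e⁻¹ * t⁻¹) = e * (t' * e⁻¹ * t'⁻¹) := by
      simpa only [mul_assoc] using h1
    exact mul_left_cancel h5
  have h3 : t * e * t⁻¹ = t' * e * t'⁻¹ := by
    have h4 := congrArg (fun x => x⁻¹) h2
    simpa [mul_inv_rev, mul_assoc] using h4
  have h5 : e = t⁻¹ * (t' * e * t'⁻¹) * t := by rw [← h3]; group
  calc e * (t⁻¹ * t') = (t⁻¹ * (t' * e * t'⁻¹) * t) * (t⁻¹ * t') := by rw [← h5]
    _ = t⁻¹ * t' * e := by group

theorem bound [Finite E] [Finite V] [Nontrivial V]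
    (hirr : ∀ W : AddSubgroup V, (∀ e : E, ∀ w ∈ W, e • w ∈ W) → W = ⊥ ∨ W = ⊤)
    {p r : ℕ} [hp : Fact p.Prime] [hrp : Fact r.Prime] (hr : ∀ v : V, r • v = 0)
    (hZ : Nat.card (center E) = p) (hnt : ∃ z ∈ center E, ∃ v : V, z • v ≠ v)
    (hc : ∀ a b : E, ⁅a, b⁆ ∈ center E) (w : ℕ) (hcard : Nat.card E = p ^ (2 * w + 1)) (n : ℕ)
    (hmin : ∀ k : ℕ, 1 ≤ k → p ∣ r ^ k - 1 → n ≤ k) : r ^ (n * p ^ w) ≤ Nat.card V := by
  classical
  have hfinEnd : Finite (AddMonoid.End V) := Finite.of_injective
    (fun f : AddMonoid.End V => (f : V → V)) DFunLike.coe_injective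
  letI : Field (KK E V) := fieldK hirr
  have hfinK : Finite (KK E V) := inferInstance
  have hmul : ∀ (k : KK E V) (v : V), k • v = (k : AddMonoid.End V) v := fun k v => rfl
  let rhoL : E → (V →ₗ[KK E V] V) := fun e =>
    { toFun := fun v => e • v
      map_add' := smul_add e
      map_smul' := fun k v => (smul_comm_rho k e v).symm }
  have hrhoL : ∀ e v, rhoL e v = e • v := fun e v => rfl
  -- linear independence
  have hinj : Function.Injective (fun t : E ⧸ center E => chi V hc t.out) := by
    intro t t' h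
    have h1 := chi_injective hZ hnt hc h
    rwa [QuotientGroup.out_eq', QuotientGroup.out_eq'] at h1
  have hli0 : LinearIndependent (KK E V)
      (fun t : E ⧸ center E => (chi V hc t.out : E → KK E V)) :=
    (linearIndependent_monoidHom E (KK E V)).comp _ hinj
  haveI : Fintype (E ⧸ center E) := Fintype.ofFinite _
  have hli : LinearIndependent (KK E V) (fun t : E ⧸ center E => rhoL t.out) := by
    rw [Fintype.linearIndependent_iff]
    intro g hg t0
    rw [Fintype.linearIndependent_iff] at hli0
    obtain ⟨v0, hv0⟩ := exists_ne (0 : V)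
    obtain ⟨φ, hφ⟩ : ∃ φ : Module.Dual (KK E V) V, φ v0 ≠ 0 := by
      by_contra hne
      push Not at hne
      exact hv0 ((Module.forall_dual_apply_eq_zero_iff (KK E V) v0).mp hne)
    have hkey : ∀ v : V, ∀ e : E,
        ∑ t : E ⧸ center E, (g t * φ (t.out • v)) * chi V hc t.out e = 0 := by
      intro v e
      have h1 : (∑ t : E ⧸ center E, g t • rhoL t.out) (e⁻¹ • v) = 0 := by rw [hg]; rfl
      rw [LinearMap.sum_apply] at h1
      have h2 := congrArg (fun x => φ (e • x)) h1
      simp only [smul_zero, map_zero, Finset.smul_sum, map_sum] at h2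
      rw [← h2]
      refine Finset.sum_congr rfl fun t _ => ?_
      have h3 : e • ((g t • rhoL t.out) (e⁻¹ • v)) = g t • (chi V hc t.out e • (t.out • v)) := by
        rw [LinearMap.smul_apply, hrhoL, hmul, ← smul_comm_rho, ← hmul]
        congr 1
        have h4 : chi V hc t.out e • (t.out • v) = ⁅e, t.out⁆ • (t.out • v) := rfl
        rw [h4, smul_smul, smul_smul, smul_smul]
        congr 1
        simp only [commutatorElement_def]; group
      rw [h3, LinearMap.map_smul φ, LinearMap.map_smul φ, smul_eq_mul, smul_eq_mul]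
      ring
    have h5 := hli0 (fun t => g t * φ (t.out • (t0.out⁻¹ • v0))) (by
      funext e
      have := hkey (t0.out⁻¹ • v0) e
      simpa [Finset.sum_apply] using this) t0
    rw [smul_inv_smul] at h5
    exact (mul_eq_zero.mp h5).resolve_right hφ
  have hfr := hli.fintype_card_le_finrank
  rw [Module.finrank_linearMap] at hfr
  set d := Module.finrank (KK E V) V with hd
  have hquot : Fintype.card (E ⧸ center E) = p ^ (2 * w) := by
    rw [← Nat.card_eq_fintype_card]
    have h1 := Subgroup.card_eq_card_quotient_mul_card_subgroup (center E)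
    rw [hcard, hZ, pow_succ] at h1
    exact (Nat.eq_of_mul_eq_mul_right hp.out.pos h1).symm
  rw [hquot] at hfr
  have hd1 : p ^ w ≤ d := by
    by_contra hlt
    push Not at hlt
    have : d * d < p ^ w * p ^ w := Nat.mul_self_lt_mul_self hlt
    rw [← pow_add, ← two_mul] at this
    omega
  -- the order of the field
  have hchar : ((r : ℕ) : KK E V) = 0 := by
    refine Subtype.ext (AddMonoidHom.ext fun v => ?_)
    have h1 : ((r : ℕ) : KK E V) • v = r • v := Nat.cast_smul_eq_nsmul _ r v
    rw [hr v] at h1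
    exact h1
  have hCP : CharP (KK E V) r := by
    have h1 : ringChar (KK E V) ∣ r := ringChar.dvd hchar
    rcases (Nat.dvd_prime hrp.out).mp h1 with h2 | h2
    · have := CharP.ringChar_ne_one (R := KK E V)
      exact absurd h2 this
    · exact h2 ▸ ringChar.charP (KK E V)
  haveI : Fintype (KK E V) := Fintype.ofFinite _
  obtain ⟨m, _, hm⟩ := FiniteField.card (KK E V) r
  have hVcard : Nat.card V = Nat.card (KK E V) ^ d := Module.natCard_eq_pow_finrank
  have hKcard : Nat.card (KK E V) = r ^ (m : ℕ) := by rw [Nat.card_eq_fintype_card, hm]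
  -- p divides r^m - 1
  have hdvd : p ∣ r ^ (m : ℕ) - 1 := by
    obtain ⟨z, hz, v, hv⟩ := hnt
    have hz1 : z ^ p = 1 := by
      have h1 : (⟨z, hz⟩ : center E) ^ Nat.card (center E) = 1 := pow_card_eq_one'
      rw [hZ] at h1
      exact congrArg Subtype.val h1
    have hzK1 : (zK E V z hz) ^ p = 1 := by
      have : (rho E V z) ^ p = 1 := by rw [← map_pow, hz1, map_one]
      exact Subtype.ext (by rw [SubmonoidClass.coe_pow]; exact this)
    have hzK2 : zK E V z hz ≠ 1 := by
      intro h
      apply hv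
      have := congrArg (fun k : KK E V => (k : AddMonoid.End V) v) h
      exact this
    have hord : orderOf (zK E V z hz) = p := orderOf_eq_prime hzK1 hzK2
    have hne : zK E V z hz ≠ 0 := by
      intro h
      rw [h, zero_pow hp.out.ne_zero] at hzK1
      exact zero_ne_one hzK1
    have hu : orderOf (Units.mk0 (zK E V z hz) hne) = p := by
      rw [← orderOf_units, Units.val_mk0, hord]
    have h2 : orderOf (Units.mk0 (zK E V z hz) hne) ∣ Nat.card (KK E V)ˣ := orderOf_dvd_natCard _
    rw [hu, Nat.card_units, hKcard] at h2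
    exact h2
  have hnm : n ≤ m := hmin m m.2 hdvd
  rw [hVcard, hKcard, ← pow_mul]
  exact Nat.pow_le_pow_right hrp.out.pos (Nat.mul_le_mul hnm hd1)

end Core

end Cfsg.Agent.H240.ExtraBound
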