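import Cfsg.Agent.SplitTwo.HexDefs
import Cfsg.Agent.H121.HexBase

/-!
# The centre of the positive part of a hexagonal root system (helper240)

`center_eq` : with a nondegenerate trace form an element commuting with `x₁`, `x₃`, `x₆` lies in `x₄`.
-/

set_option autoImplicit false

namespace Cfsg.Agent.H240.HexZ

open Cfsg.Agent.SplitTwo (HexRel trc shp crs nrm kk)
open Cfsg.Agent.H121.HexMin (kk_eq)

variable {E : Type*} [Field E] {σ : E ≃+* E} {G : Type*} [Group G] {x1 x2 x3 x4 x5 x6 : E → G}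

theorem nrm_fix (h3 : ∀ a, σ (σ (σ a)) = a) (a : E) : σ (nrm σ a) = nrm σ a := by
  rw [nrm, map_mul, map_mul, h3]; ring

theorem trc_fix (h3 : ∀ a, σ (σ (σ a)) = a) (a b : E) : σ (trc σ a b) = trc σ a b := by
  rw [trc, map_add, map_add, h3]; ring

variable (h : HexRel σ x1 x2 x3 x4 x5 x6)

include h

theorem z1 : x1 0 = 1 := by
  have := h.add1 0 0
  rw [add_zero] at this
  exact (mul_eq_left.1 this.symm)
theorem z2 : x2 0 = 1 := by
  have := h.add2 0 0 (map_zero _) (map_zero _)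
  rw [add_zero] at this
  exact (mul_eq_left.1 this.symm)
theorem z3 : x3 0 = 1 := by
  have := h.add3 0 0
  rw [add_zero] at this
  exact (mul_eq_left.1 this.symm)
theorem z4 : x4 0 = 1 := by
  have := h.add4 0 0 (map_zero _) (map_zero _)
  rw [add_zero] at this
  exact (mul_eq_left.1 this.symm)
theorem z5 : x5 0 = 1 := by
  have := h.add5 0 0
  rw [add_zero] at this
  exact (mul_eq_left.1 this.symm)
theorem z6 : x6 0 = 1 := by
  have := h.add6 0 0 (map_zero _) (map_zero _)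
  rw [add_zero] at this
  exact (mul_eq_left.1 this.symm)

theorem m12 (a : E) {t : E} (ht : σ t = t) : x1 a * x2 t = x2 t * x1 a := by
  rw [kk_eq (h.c12 a t ht), mul_one]
theorem m13 (a b : E) : x1 a * x3 b = x3 b * x1 a * x2 (trc σ a b) := kk_eq (h.c13 a b)
theorem m14 (a : E) {t : E} (ht : σ t = t) : x1 a * x4 t = x4 t * x1 a := by
  rw [kk_eq (h.c14 a t ht), mul_one]
theorem m15 (a b : E) : x1 a * x5 b = x5 b * x1 a * (x2 (-(trc σ (shp σ a) b)) * x3 (crs σ a b) * x4 (trc σ a (shp σ b))) :=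
  kk_eq (h.c15 a b)
theorem m16 (a : E) {t : E} (ht : σ t = t) : x1 a * x6 t = x6 t * x1 a *
    (x2 (-(t * nrm σ a)) * x3 (t * shp σ a) * x4 (t ^ 2 * nrm σ a) * x5 (-(t * a))) := kk_eq (h.c16 a t ht)
theorem m23 {t : E} (ht : σ t = t) (a : E) : x2 t * x3 a = x3 a * x2 t := by
  rw [kk_eq (h.c23 t a ht), mul_one]
theorem m24 {t u : E} (ht : σ t = t) (hu : σ u = u) : x2 t * x4 u = x4 u * x2 t := by
  rw [kk_eq (h.c24 t u ht hu), mul_one]
theorem m25 {t : E} (ht : σ t = t) (a : E) : x2 t * x5 a = x5 a * x2 t := by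
  rw [kk_eq (h.c25 t a ht), mul_one]
theorem m26 {t u : E} (ht : σ t = t) (hu : σ u = u) : x2 t * x6 u = x6 u * x2 t * x4 (t * u) :=
  kk_eq (h.c26 t u ht hu)
theorem m34 (a : E) {t : E} (ht : σ t = t) : x3 a * x4 t = x4 t * x3 a := by
  rw [kk_eq (h.c34 a t ht), mul_one]
theorem m35 (a b : E) : x3 a * x5 b = x5 b * x3 a * x4 (trc σ a b) := kk_eq (h.c35 a b)
theorem m36 (a : E) {t : E} (ht : σ t = t) : x3 a * x6 t = x6 t * x3 a := by
  rw [kk_eq (h.c36 a t ht), mul_one]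
theorem m45 {t : E} (ht : σ t = t) (a : E) : x4 t * x5 a = x5 a * x4 t := by
  rw [kk_eq (h.c45 t a ht), mul_one]
theorem m46 {t u : E} (ht : σ t = t) (hu : σ u = u) : x4 t * x6 u = x6 u * x4 t := by
  rw [kk_eq (h.c46 t u ht hu), mul_one]
theorem m56 (a : E) {t : E} (ht : σ t = t) : x5 a * x6 t = x6 t * x5 a := by
  rw [kk_eq (h.c56 a t ht), mul_one]

/-- the product in `X₅ X₃ X₂ X₄` -/
theorem push5 {α γ : E} (β δ : E) (hα : σ α = α) (hγ : σ γ = γ) :
    x2 α * x3 β * x4 γ * x5 δ = x5 δ * x3 β * x2 α * x4 (γ + trc σ β δ) := by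
  calc x2 α * x3 β * x4 γ * x5 δ = x2 α * x3 β * (x4 γ * x5 δ) := by group
    _ = x2 α * (x3 β * x5 δ) * x4 γ := by rw [m45 h hγ]; group
    _ = (x2 α * x5 δ) * x3 β * x4 (trc σ β δ) * x4 γ := by rw [m35 h]; group
    _ = x5 δ * (x2 α * x3 β) * (x4 (trc σ β δ) * x4 γ) := by rw [m25 h hα]; group
    _ = x5 δ * x3 β * x2 α * x4 (trc σ β δ + γ) := by
      rw [m23 h hα, ← h.add4 _ _ (trc_fix h.cube _ _) hγ]; group
    _ = _ := by rw [add_comm]

/-- the product in `X₃ X₂ X₄` -/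
theorem mul324 {α γ α' γ' : E} (β β' : E) (hα : σ α = α) (hγ : σ γ = γ) (hα' : σ α' = α') (hγ' : σ γ' = γ') :
    x3 β * x2 α * x4 γ * (x3 β' * x2 α' * x4 γ') = x3 (β + β') * x2 (α + α') * x4 (γ + γ') := by
  rw [h.add3, h.add2 _ _ hα hα', h.add4 _ _ hγ hγ']
  calc x3 β * x2 α * x4 γ * (x3 β' * x2 α' * x4 γ') = x3 β * x2 α * (x4 γ * x3 β') * x2 α' * x4 γ' := by group
    _ = x3 β * (x2 α * x3 β') * (x4 γ * x2 α') * x4 γ' := by rw [← m34 h β' hγ]; group
    _ = _ := by rw [m23 h hα, ← m24 h hα' hγ]; group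

/-- **The centre.** -/
theorem center_eq
    (hinj : ∀ a b c d e f a' b' c' d' e' f' : E, σ a = a → σ a' = a' → σ e = e → σ e' = e' → σ f = f → σ f' = f' →
      x6 a * x1 b * x5 c * x3 d * x2 e * x4 f = x6 a' * x1 b' * x5 c' * x3 d' * x2 e' * x4 f' →
      a = a' ∧ b = b' ∧ c = c' ∧ d = d' ∧ e = e' ∧ f = f')
    (hnd : ∀ a : E, a ≠ 0 → ∃ b, trc σ a b ≠ 0) {a b c d e f : E} (ha : σ a = a) (he : σ e = e) (hf : σ f = f)
    (hc1 : ∀ t, x6 a * x1 b * x5 c * x3 d * x2 e * x4 f * x1 t = x1 t * (x6 a * x1 b * x5 c * x3 d * x2 e * x4 f))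
    (hc3 : ∀ t, x6 a * x1 b * x5 c * x3 d * x2 e * x4 f * x3 t = x3 t * (x6 a * x1 b * x5 c * x3 d * x2 e * x4 f))
    (hc6 : x6 a * x1 b * x5 c * x3 d * x2 e * x4 f * x6 1 = x6 1 * (x6 a * x1 b * x5 c * x3 d * x2 e * x4 f)) :
    x6 a * x1 b * x5 c * x3 d * x2 e * x4 f = x4 f := by
  have h1 : σ 1 = 1 := map_one _
  have hz : σ 0 = 0 := map_zero _
  have h3 := h.cube
  -- `b = 0`
  have hb : b = 0 := by
    have e1 : x3 d * x2 e * x4 f * x6 1 = x6 1 * (x3 d * x2 e * x4 (e + f)) := by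
      have he1 : σ (e * 1) = e * 1 := by rw [mul_one, he]
      calc x3 d * x2 e * x4 f * x6 1 = x3 d * x2 e * (x4 f * x6 1) := by group
        _ = x3 d * (x2 e * x6 1) * x4 f := by rw [m46 h hf h1]; group
        _ = (x3 d * x6 1) * x2 e * (x4 (e * 1) * x4 f) := by rw [m26 h he h1]; group
        _ = _ := by rw [m36 h d h1, ← h.add4 _ _ he1 hf, mul_one]; group
    have hn1 : σ (-(1 * nrm σ b)) = -(1 * nrm σ b) := by rw [one_mul, map_neg, nrm_fix h3]
    have hn2 : σ (1 ^ 2 * nrm σ b) = 1 ^ 2 * nrm σ b := by rw [one_pow, one_mul, nrm_fix h3]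
    have e2 : x6 a * x1 b * x5 c * x3 d * x2 e * x4 f * x6 1 = x6 (a + 1) * x1 b * x5 (-(1 * b) + c) *
        x3 (1 * shp σ b + d) * x2 (-(1 * nrm σ b) + e) * x4 (1 ^ 2 * nrm σ b + trc σ (1 * shp σ b) (-(1 * b) + c) + (e + f)) := by
      have hef : σ (e + f) = e + f := by rw [map_add, he, hf]
      calc x6 a * x1 b * x5 c * x3 d * x2 e * x4 f * x6 1
          = x6 a * x1 b * x5 c * (x3 d * x2 e * x4 f * x6 1) := by group
        _ = x6 a * x1 b * (x5 c * x6 1) * (x3 d * x2 e * x4 (e + f)) := by rw [e1]; group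
        _ = x6 a * (x1 b * x6 1) * x5 c * (x3 d * x2 e * x4 (e + f)) := by rw [m56 h c h1]; group
        _ = (x6 a * x6 1) * x1 b * (x2 (-(1 * nrm σ b)) * x3 (1 * shp σ b) * x4 (1 ^ 2 * nrm σ b) *
              (x5 (-(1 * b)) * x5 c)) * (x3 d * x2 e * x4 (e + f)) := by rw [m16 h b h1]; group
        _ = x6 (a + 1) * x1 b * (x5 (-(1 * b) + c) * x3 (1 * shp σ b) * x2 (-(1 * nrm σ b)) *
              x4 (1 ^ 2 * nrm σ b + trc σ (1 * shp σ b) (-(1 * b) + c))) * (x3 d * x2 e * x4 (e + f)) := by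
            rw [← h.add6 _ _ ha h1, ← h.add5, push5 h _ _ hn1 hn2]
        _ = x6 (a + 1) * x1 b * x5 (-(1 * b) + c) * (x3 (1 * shp σ b) * x2 (-(1 * nrm σ b)) *
              x4 (1 ^ 2 * nrm σ b + trc σ (1 * shp σ b) (-(1 * b) + c)) * (x3 d * x2 e * x4 (e + f))) := by group
        _ = _ := by
            rw [mul324 h _ _ hn1 (by rw [map_add, hn2, trc_fix h3]) he hef]; group
    have e3 : x6 1 * (x6 a * x1 b * x5 c * x3 d * x2 e * x4 f) = x6 (a + 1) * x1 b * x5 c * x3 d * x2 e * x4 f := by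
      rw [add_comm a 1, h.add6 _ _ h1 ha]; group
    rw [e2, e3] at hc6
    have h4 := (hinj _ _ _ _ _ _ _ _ _ _ _ _ (by rw [map_add, ha, h1]) (by rw [map_add, ha, h1])
      (by rw [map_add, hn1, he]) he (by rw [map_add, map_add, hn2, trc_fix h3, map_add, he, hf]) hf hc6).2.2.1
    have h5 : -b + c = c := by rw [one_mul] at h4; exact h4
    have h6 : -b = 0 := by linear_combination h5
    exact neg_eq_zero.1 h6
  subst hb
  rw [z1 h, mul_one] at hc1 hc3 hc6 ⊢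
  -- `a = 0`
  have ha0 : a = 0 := by
    have hc := hc1 1
    have hn1 : σ (-(a * nrm σ 1)) = -(a * nrm σ 1) := by rw [map_neg, map_mul, nrm_fix h3, ha]
    have hn2 : σ (a ^ 2 * nrm σ 1) = a ^ 2 * nrm σ 1 := by rw [map_mul, map_pow, nrm_fix h3, ha]
    have e1 : x1 1 * (x6 a * x5 c * x3 d * x2 e * x4 f) = x6 a * x1 1 * x5 (-(a * 1) + c) *
        x3 (a * shp σ 1 + d) * x2 (-(a * nrm σ 1) + e) *
          x4 (a ^ 2 * nrm σ 1 + trc σ (a * shp σ 1) (-(a * 1) + c) + f) := by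
      calc x1 1 * (x6 a * x5 c * x3 d * x2 e * x4 f) = (x1 1 * x6 a) * x5 c * (x3 d * x2 e * x4 f) := by group
        _ = x6 a * x1 1 * (x2 (-(a * nrm σ 1)) * x3 (a * shp σ 1) * x4 (a ^ 2 * nrm σ 1) * (x5 (-(a * 1)) * x5 c)) *
              (x3 d * x2 e * x4 f) := by rw [m16 h 1 ha]; group
        _ = x6 a * x1 1 * x5 (-(a * 1) + c) * (x3 (a * shp σ 1) * x2 (-(a * nrm σ 1)) *
              x4 (a ^ 2 * nrm σ 1 + trc σ (a * shp σ 1) (-(a * 1) + c)) * (x3 d * x2 e * x4 f)) := by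
            rw [← h.add5, push5 h _ _ hn1 hn2]; group
        _ = _ := by rw [mul324 h _ _ hn1 (by rw [map_add, hn2, trc_fix h3]) he hf]; group
    have e2 : ∃ β α γ, σ α = α ∧ σ γ = γ ∧ x6 a * x5 c * x3 d * x2 e * x4 f * x1 1 =
        x6 a * x1 1 * x5 c * x3 β * x2 α * x4 γ := by
      have hk : σ (-(trc σ (shp σ 1) c)) = -(trc σ (shp σ 1) c) := by rw [map_neg, trc_fix h3]
      have hk2 : σ (-(trc σ 1 d)) = -(trc σ 1 d) := by rw [map_neg, trc_fix h3]
      have hk3 : σ (-(trc σ 1 (shp σ c))) = -(trc σ 1 (shp σ c)) := by rw [map_neg, trc_fix h3]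
      have hk4 : σ (trc σ (shp σ 1) c) = (trc σ (shp σ 1) c) := trc_fix h3 _ _
      have hk5 : σ (-(trc σ 1 d)) = -(trc σ 1 d) := by rw [map_neg, trc_fix h3]
      -- `x5 c * x1 1 = x1 1 * x5 c * (x3 _ * x2 _ * x4 _)`
      have i2 : x5 c * x1 1 = x1 1 * x5 c * (x3 (-crs σ 1 c) * x2 (trc σ (shp σ 1) c) * x4 (-(trc σ 1 (shp σ c)))) := by
        rw [m15 h 1 c]
        have : x2 (-(trc σ (shp σ 1) c)) * x3 (crs σ 1 c) * x4 (trc σ 1 (shp σ c)) =
            x3 (crs σ 1 c) * x2 (-(trc σ (shp σ 1) c)) * x4 (trc σ 1 (shp σ c)) := by rw [m23 h hk]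
        rw [this, mul_assoc (x5 c * x1 1), mul324 h _ _ hk (trc_fix h3 _ _) hk4 hk3, add_neg_cancel, neg_add_cancel,
          add_neg_cancel, z2 h, z3 h, z4 h, mul_one, mul_one, mul_one]
      have i3 : x3 d * x1 1 = x1 1 * (x3 d * x2 (-(trc σ 1 d)) * x4 0) := by
        have : x1 1 * (x3 d * x2 (-(trc σ 1 d)) * x4 0) = (x1 1 * x3 d) * x2 (-(trc σ 1 d)) := by
          rw [z4 h]; group
        rw [this, m13 h, mul_assoc (x3 d * x1 1), ← h.add2 _ _ (trc_fix h3 _ _) hk5, add_neg_cancel, z2 h, mul_one]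
      refine ⟨-crs σ 1 c + (d + 0), trc σ (shp σ 1) c + (-(trc σ 1 d) + e), -(trc σ 1 (shp σ c)) + (0 + f),
        by rw [map_add, map_add, hk4, hk2, he], by rw [map_add, map_add, hk3, hz, hf], ?_⟩
      calc x6 a * x5 c * x3 d * x2 e * x4 f * x1 1 = x6 a * x5 c * x3 d * x2 e * (x4 f * x1 1) := by group
        _ = x6 a * x5 c * x3 d * (x2 e * x1 1) * x4 f := by rw [← m14 h 1 hf]; group
        _ = x6 a * x5 c * (x3 d * x1 1) * (x3 0 * x2 e * x4 f) := by rw [← m12 h 1 he, z3 h]; group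
        _ = x6 a * (x5 c * x1 1) * (x3 d * x2 (-(trc σ 1 d)) * x4 0 * (x3 0 * x2 e * x4 f)) := by rw [i3]; group
        _ = x6 a * x1 1 * x5 c * ((x3 (-crs σ 1 c) * x2 (trc σ (shp σ 1) c) * x4 (-(trc σ 1 (shp σ c)))) *
              (x3 (d + 0) * x2 (-(trc σ 1 d) + e) * x4 (0 + f))) := by
            rw [i2, mul324 h _ _ hk5 hz he hf]; group
        _ = _ := by rw [mul324 h _ _ hk4 hk3 (by rw [map_add, hk5, he]) (by rw [map_add, hz, hf])]; group
    obtain ⟨β, α, γ, hα, hγ, e3⟩ := e2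
    rw [e1, e3] at hc
    have h4 := (hinj _ _ _ _ _ _ _ _ _ _ _ _ ha ha hα (by rw [map_add, hn1, he]) hγ
      (by rw [map_add, map_add, hn2, trc_fix h3, hf]) hc).2.2.1
    have h5 : a = 0 := by linear_combination h4
    exact h5
  subst ha0
  rw [z6 h, one_mul] at hc1 hc3 hc6 ⊢
  -- `c = 0`
  have hc0 : c = 0 := by
    by_contra hne
    obtain ⟨t, ht⟩ := hnd c hne
    have ht' : trc σ t c ≠ 0 := by
      have : trc σ t c = trc σ c t := by rw [trc, trc, mul_comm]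
      rwa [this]
    have hc := hc3 t
    have e1 : x3 t * (x5 c * x3 d * x2 e * x4 f) = x5 c * x3 (t + d) * x2 e * x4 (trc σ t c + f) := by
      have hk : σ (trc σ t c) = trc σ t c := trc_fix h3 _ _
      calc x3 t * (x5 c * x3 d * x2 e * x4 f) = (x3 t * x5 c) * x3 d * x2 e * x4 f := by group
        _ = x5 c * (x3 t * x2 0 * x4 (trc σ t c) * (x3 d * x2 e * x4 f)) := by rw [m35 h, z2 h]; group
        _ = _ := by rw [mul324 h _ _ hz hk he hf, zero_add]; group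
    have e2 : x5 c * x3 d * x2 e * x4 f * x3 t = x5 c * x3 (t + d) * x2 e * x4 f := by
      calc x5 c * x3 d * x2 e * x4 f * x3 t = x5 c * ((x3 d * x2 e * x4 f) * (x3 t * x2 0 * x4 0)) := by
            rw [z2 h, z4 h]; group
        _ = _ := by rw [mul324 h _ _ he hf hz hz, add_zero, add_zero, add_comm d t]; group
    rw [e1, e2] at hc
    have h4 := hinj 0 0 c (t + d) e f 0 0 c (t + d) e (trc σ t c + f) hz hz he he hf
      (by rw [map_add, trc_fix h3, hf]) (by rw [z6 h, z1 h, one_mul, one_mul]; exact hc)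
    apply ht'
    linear_combination -h4.2.2.2.2.2
  subst hc0
  rw [z5 h, one_mul] at hc1 hc3 hc6 ⊢
  -- `d = 0`
  have hd0 : d = 0 := by
    by_contra hne
    obtain ⟨t, ht⟩ := hnd d hne
    have ht' : trc σ t d ≠ 0 := by
      have : trc σ t d = trc σ d t := by rw [trc, trc, mul_comm]
      rwa [this]
    have hc := hc1 t
    have hk : σ (trc σ t d) = trc σ t d := trc_fix h3 _ _
    have e1 : x1 t * (x3 d * x2 e * x4 f) = x3 d * x2 (trc σ t d + e) * x4 f * x1 t := by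
      calc x1 t * (x3 d * x2 e * x4 f) = (x1 t * x3 d) * x2 e * x4 f := by group
        _ = x3 d * (x1 t * (x2 (trc σ t d) * x2 e)) * x4 f := by rw [m13 h]; group
        _ = x3 d * (x1 t * x2 (trc σ t d + e)) * x4 f := by rw [h.add2 _ _ hk he]
        _ = x3 d * x2 (trc σ t d + e) * (x1 t * x4 f) := by rw [m12 h t (by rw [map_add, hk, he])]; group
        _ = _ := by rw [m14 h t hf]; group
    rw [e1] at hc
    have h5 := mul_right_cancel hc
    have h4 := hinj 0 0 0 d e f 0 0 0 d (trc σ t d + e) f hz hz he (by rw [map_add, hk, he]) hf hf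
      (by rw [z6 h, z1 h, z5 h, one_mul, one_mul, one_mul]; exact h5)
    apply ht'
    linear_combination -h4.2.2.2.2.1
  subst hd0
  rw [z3 h, one_mul] at hc1 hc3 hc6 ⊢
  -- `e = 0`
  have he0 : e = 0 := by
    have he1 : σ (e * 1) = e * 1 := by rw [mul_one, he]
    have e1 : x2 e * x4 f * x6 1 = x6 1 * (x2 e * x4 (e * 1 + f)) := by
      calc x2 e * x4 f * x6 1 = x2 e * (x4 f * x6 1) := by group
        _ = (x2 e * x6 1) * x4 f := by rw [m46 h hf h1]; group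
        _ = x6 1 * (x2 e * (x4 (e * 1) * x4 f)) := by rw [m26 h he h1]; group
        _ = _ := by rw [← h.add4 _ _ he1 hf]
    rw [e1] at hc6
    have h5 := mul_left_cancel hc6
    have h4 := hinj 0 0 0 0 e (e * 1 + f) 0 0 0 0 e f hz hz he he (by rw [map_add, he1, hf]) hf
      (by rw [z6 h, z1 h, z5 h, z3 h, one_mul, one_mul, one_mul, one_mul]; exact h5)
    linear_combination h4.2.2.2.2.2
  subst he0
  rw [z2 h, one_mul]

end Cfsg.Agent.H240.HexZ
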