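import Cfsg.Agent.H240.QuadRgd
import Cfsg.Agent.H115.ChevPar
import Cfsg.Agent.Nodes.RGDFold
import Cfsg.Agent.Nodes.RGDTwD4
import Cfsg.Agent.Nodes.RGDTwE6
import Cfsg.Agent.S1025
import Cfsg.Agent.S1032
import Cfsg.Agent.BpExc.RowsUntw

/-!
# `QRow` for the exceptional groups of odd characteristic (helper240)

* `quad_of_ok` : `⁅x_s(a), x_r(b)⁆` has `Quad`, from the tables;
* `chev` : the untwisted groups;
* `fold` : the groups obtained by folding; `twD4`, `twE6`;
* `of_exceptional`, `of_twisted`.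
-/

set_option autoImplicit false
set_option linter.unusedSectionVars false

namespace Cfsg.Agent.H240.QuadExc

open CoxeterSystem Cfsg Cfsg.Lie Cfsg.Lie.ChevalleyDatum Cfsg.Agent.ChevalleyStructure
  Cfsg.Agent.ChevalleyStructure.Elts Cfsg.Agent.ChevalleyStructure.CoxeterGeom Cfsg.Agent.Tits.Roots
  Cfsg.Agent.Tits.Core Cfsg.Agent.Nodes.Reps Cfsg.Agent.Nodes.BNOf Cfsg.Agent.Nodes.RGDChev
open Cfsg.Agent.H238 (Quad)
open Cfsg.Agent.H240.QuadRow Cfsg.Agent.H240.QuadRgd
open scoped commutatorElement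

universe u v

section Tables

/-- the commutator formula for the pair `(r, s)` has no term -/
def okComm (D : ChevalleyDatum) (r s : ℕ) : Bool :=
  decide (r < D.nroots) && decide (s < D.nroots) && decide (s ≠ r) && decide (s ≠ D.neg r) &&
    decide (D.commTerms r s = [])

/-- the commutator formula for the pair `(r, s)` has the only term `x_k(± t u)` -/
def okOne (D : ChevalleyDatum) (r s k : ℕ) : Bool :=
  decide (r < D.nroots) && decide (s < D.nroots) && decide (k < D.nroots) && decide (s ≠ r) &&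
    decide (s ≠ D.neg r) && (decide (D.commTerms r s = [(k, 1, 1, 1)]) || decide (D.commTerms r s = [(k, -1, 1, 1)]))

/-- `⟨s, Σ j^∨⟩` -/
def csum (D : ChevalleyDatum) (o : List ℕ) (s : ℕ) : ℤ := (o.map fun j => D.cartan j s).sum

/-- the table for `Quad` -/
def okQuad (D : ChevalleyDatum) (r s k : ℕ) (o : List ℕ) : Bool :=
  okOne D r s k && okComm D s k && okComm D r k && o.all (fun j => decide (j < D.rank)) &&
    decide (csum D o r % 2 = 1) && decide (csum D o s % 2 = 1) && decide (csum D o k % 2 = 0)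

/-- `k` commutes with all positive roots -/
def okHigh (D : ChevalleyDatum) (k : ℕ) : Bool :=
  decide (k < D.nroots) && (List.range D.nroots).all fun r => decide (¬ D.IsPosRoot r) || decide (r = k) || okComm D r k

end Tables

section Ambient

variable {F : Type u} [Field F] {D : ChevalleyDatum}

theorem comm_gen (hD : InList D) {r s : ℕ} (hr : r < D.nroots) (hs : s < D.nroots) (h1 : s ≠ r)
    (h2 : s ≠ D.neg r) (t u : F) :
    xG hD s u * xG hD r t = xG hD r t * xG hD s u * wordG hD (D.commWord F r s t u) := by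
  apply Units.ext
  rw [Units.val_mul, Units.val_mul, Units.val_mul, coe_xG, coe_xG, coe_wordG]
  exact Cfsg.Agent.S1025.result D hD r s hr hs h1 h2 t u

theorem comm_of_ok (hD : InList D) {r s : ℕ} (h : okComm D r s = true) (t u : F) :
    Commute (xG hD s u) (xG hD r t) := by
  simp only [okComm, Bool.and_eq_true, decide_eq_true_eq] at h
  obtain ⟨⟨⟨⟨hr, hs⟩, h1⟩, h2⟩, h3⟩ := h
  show xG hD s u * xG hD r t = xG hD r t * xG hD s u
  rw [comm_gen hD hr hs h1 h2, commWord, h3, List.map_nil, wordG_nil, mul_one]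

theorem one_of_ok (hD : InList D) {r s k : ℕ} (h : okOne D r s k = true) :
    ∃ c : F, (c = 1 ∨ c = -1) ∧ ∀ a b : F, ⁅xG hD s a, xG hD r b⁆ = xG hD k (c * (a * b)) := by
  simp only [okOne, Bool.and_eq_true, Bool.or_eq_true, decide_eq_true_eq] at h
  obtain ⟨⟨⟨⟨⟨hr, hs⟩, hk⟩, h1⟩, h2⟩, h3⟩ := h
  have key : ∀ C : ℤ, D.commTerms r s = [(k, C, 1, 1)] → ∀ a b : F,
      ⁅xG hD s a, xG hD r b⁆ = xG hD k (-(C : F) * (a * b)) := by
    intro C hC a b
    have e := comm_gen (F := F) hD hr hs h1 h2 (-b) (-a)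
    rw [commWord, hC, List.map_cons, List.map_nil, wordG_cons, wordG_nil, mul_one] at e
    have e2 : ⁅xG hD s a, xG hD r b⁆ = xG hD s a * xG hD r b * (xG hD s (-a) * xG hD r (-b)) := by
      rw [commutatorElement_def, xG_inv, xG_inv]; group
    rw [e2, e, ← xG_inv, ← xG_inv]
    have e3 : xG hD s a * xG hD r b * ((xG hD r b)⁻¹ * (xG hD s a)⁻¹ * xG hD k ((C : F) * (- -b) ^ 1 * (-a) ^ 1)) =
        xG hD k ((C : F) * (- -b) ^ 1 * (-a) ^ 1) := by group
    rw [e3]
    congr 1
    ring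
  rcases h3 with h3 | h3
  · exact ⟨-((1 : ℤ) : F), by right; simp, key 1 h3⟩
  · exact ⟨-((-1 : ℤ) : F), by left; simp, key (-1) h3⟩

theorem xG_pow (hD : InList D) (r : ℕ) (t : F) (m : ℕ) : xG hD r t ^ m = xG hD r (m * t) := by
  induction m with
  | zero => rw [pow_zero, Nat.cast_zero, zero_mul, xG_zero]
  | succ m ih =>
    rw [pow_succ, ih, xG_add]
    congr 1
    push_cast
    ring

/-- the element `∏ h_j(-1)` -/
def hI (hD : InList D) (F : Type u) [Field F] (o : List ℕ) : GL D.Idx F :=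
  (o.map fun j => hG hD (D.simple j) (-1)).prod

theorem hI_xG (hD : InList D) (o : List ℕ) (ho : ∀ j ∈ o, j < D.rank) {s : ℕ} (hs : s < D.nroots) (t : F) :
    hI hD F o * xG hD s t = xG hD s ((-1) ^ csum D o s * t) * hI hD F o := by
  induction o with
  | nil => simp [hI, csum]
  | cons j o ih =>
    have ih' := ih fun i hi => ho i (List.mem_cons_of_mem _ hi)
    have hj := ho j List.mem_cons_self
    have e1 : hI hD F (j :: o) = hG hD (D.simple j) (-1) * hI hD F o := by
      simp [hI]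
    have e2 : csum D (j :: o) s = D.cartan j s + csum D o s := by simp [csum]
    have e3 : hG hD (D.simple j) (-1 : F) * xG hD s ((-1) ^ csum D o s * t) =
        xG hD s ((-1) ^ D.cartan j s * ((-1) ^ csum D o s * t)) * hG hD (D.simple j) (-1) := by
      apply Units.ext
      rw [Units.val_mul, Units.val_mul, coe_hG, coe_xG, coe_xG]
      exact Cfsg.Agent.S1032.result D hD j s hj hs (-1) (neg_ne_zero.2 one_ne_zero) _
    rw [e1, e2, mul_assoc, ih', ← mul_assoc, e3, mul_assoc, zpow_add₀ (neg_ne_zero.2 one_ne_zero), mul_assoc]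

theorem zpow_odd {m : ℤ} (hm : m % 2 = 1) : ((-1 : F)) ^ m = -1 := (Int.odd_iff.2 hm).neg_one_zpow

theorem zpow_even {m : ℤ} (hm : m % 2 = 0) : ((-1 : F)) ^ m = 1 := (Int.even_iff.2 hm).neg_one_zpow

/-- **`Quad` from the tables.** -/
theorem quad_of_ok (hD : InList D) {p : ℕ} [CharP F p] {r s k : ℕ} {o : List ℕ} (h : okQuad D r s k o = true)
    {H : Subgroup (GL D.Idx F)} {a b : F} (hx : xG hD s a ∈ H) (hy : xG hD r b ∈ H) (hh : hI hD F o ∈ H) :
    Quad p H ⁅xG hD s a, xG hD r b⁆ := by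
  simp only [okQuad, Bool.and_eq_true, decide_eq_true_eq, List.all_eq_true] at h
  obtain ⟨⟨⟨⟨⟨⟨h1, h2⟩, h3⟩, h4⟩, h5⟩, h6⟩, h7⟩ := h
  obtain ⟨c, -, hc⟩ := one_of_ok (F := F) hD h1
  simp only [okOne, Bool.and_eq_true, Bool.or_eq_true, decide_eq_true_eq] at h1
  obtain ⟨⟨⟨⟨⟨hr, hs⟩, hk⟩, -⟩, -⟩, -⟩ := h1
  have hpow : ∀ (i : ℕ) (t : F), xG hD i t ^ p = 1 := by
    intro i t
    rw [xG_pow, CharP.cast_eq_zero, zero_mul, xG_zero]
  have hinv : ∀ i < D.nroots, csum D o i % 2 = 1 → ∀ t : F,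
      hI hD F o * xG hD i t * (hI hD F o)⁻¹ = (xG hD i t)⁻¹ := by
    intro i hi hm t
    rw [hI_xG hD o h4 hi, zpow_odd hm, xG_inv, neg_one_mul, mul_inv_cancel_right]
  refine ⟨_, hx, _, hy, _, hh, hpow _ _, hpow _ _, rfl, ?_, ?_, ?_, hinv s hs h6 a, hinv r hr h5 b⟩
  · rw [hc]
    exact (comm_of_ok hD h2 _ _).symm
  · rw [hc]
    exact (comm_of_ok hD h3 _ _).symm
  · rw [hc]
    show hI hD F o * _ = _ * hI hD F o
    rw [hI_xG hD o h4 hk, zpow_even h7, one_mul]

/-- pulling back to the subgroup -/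
theorem quad_subtype {G : Type u} [Group G] {H : Subgroup G} {p : ℕ} {z : G} (h : Quad p H z) (hz : z ∈ H) :
    Quad p (⊤ : Subgroup ↥H) ⟨z, hz⟩ := by
  obtain ⟨x, hx, y, hy, h, hh, h1, h2, h3, h4, h5, h6, h7, h8⟩ := h
  exact ⟨⟨x, hx⟩, Subgroup.mem_top _, ⟨y, hy⟩, Subgroup.mem_top _, ⟨h, hh⟩, Subgroup.mem_top _, Subtype.ext h1,
    Subtype.ext h2, Subtype.ext h3, Subtype.ext h4, Subtype.ext h5, Subtype.ext h6, Subtype.ext h7, Subtype.ext h8⟩

end Ambient

section Untw

variable {D : ChevalleyDatum} {l : ℕ} {M : CoxeterMatrix (Fin l)} (hp : IsType D l M) {K : Type} [Field K] [Finite K]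
  {p : ℕ} [Fact p.Prime] [CharP K p]

theorem hI_mem_group (hD : InList D) (o : List ℕ) : hI hD K o ∈ D.group K := by
  refine Subgroup.list_prod_mem _ ?_
  intro x hx
  obtain ⟨j, -, rfl⟩ := List.mem_map.1 hx
  exact hG_mem_group hD _ _

include hp in
/-- **The untwisted groups.** -/
theorem chev (hp2 : p ≠ 2) (hM : ∀ σ : Equiv.Perm (Fin l), (∀ i j, M (σ i) (σ j) = M i j) → σ ^ 2 = 1)
    {r s k : ℕ} {o : List ℕ} (h1 : okHigh D k = true) (h2 : okQuad D r s k o = true) : QRow p ↥(D.group K) := by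
  have hfin := finite_W hp M.toCoxeterSystem
  have hD := hp.inList
  simp only [okHigh, Bool.and_eq_true, Bool.or_eq_true, decide_eq_true_eq, List.all_eq_true, List.mem_range] at h1
  obtain ⟨hk, hall⟩ := h1
  have hX : ∀ x : ↥(D.group K), x ∈ (XV D l K (vec D l k)).subgroupOf (D.group K) ↔
      ∃ v : K, (x : GL D.Idx K) = xG hD k v := by
    intro x
    rw [Subgroup.mem_subgroupOf, XV_vec hp K hk, mem_rootSubgroup_iff hD]
  refine qrow_of_rgd (rgd (K := K) hp M.toCoxeterSystem p) hp2 (G1_eq_top hp M.toCoxeterSystem) hM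
    (r := vec D l k) (isRoot_vec hp _ hk) ?_ ?_
  · intro w hw x hx
    obtain ⟨v, hv⟩ := (hX x).1 hx
    have hw' : (w : GL D.Idx K) ∈ D.posUnipotent K := by
      have h3 := H115.sup_pos_eq (K := K) hp M.toCoxeterSystem
      rw [h3] at hw
      exact hw
    have hle : D.posUnipotent K ≤ Subgroup.centralizer ({xG hD k v} : Set (GL D.Idx K)) := by
      rw [posUnipotent_le_iff hD]
      intro r hr t
      rw [Subgroup.mem_centralizer_singleton_iff]
      rcases hall r hr.1 with (h4 | h4) | h4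
      · exact absurd hr h4
      · subst h4
        rw [xG_add, xG_add, add_comm]
      · exact (comm_of_ok hD h4 _ _).eq.symm
    apply Subtype.ext
    rw [Subgroup.coe_mul, Subgroup.coe_mul, hv]
    exact Subgroup.mem_centralizer_singleton_iff.1 (hle hw')
  · intro z hz hz1
    obtain ⟨v, hv⟩ := (hX z).1 hz
    obtain ⟨c, hc1, hc⟩ := one_of_ok (F := K) hD (r := r) (s := s) (k := k) (by
      simp only [okQuad, Bool.and_eq_true] at h2
      exact h2.1.1.1.1.1.1)
    have hc2 : c * c = 1 := by rcases hc1 with rfl | rfl <;> norm_num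
    have e1 : (z : GL D.Idx K) = ⁅xG hD s (1 : K), xG hD r (c * v)⁆ := by
      rw [hc, hv, one_mul, ← mul_assoc, hc2, one_mul]
    have h3 := quad_of_ok (p := p) hD h2 (H := D.group K) (xG_mem_group hD s (1 : K)) (xG_mem_group hD r (c * v))
      (hI_mem_group hD o)
    rw [← e1] at h3
    exact quad_subtype h3 z.2

end Untw

section Orth

variable {F : Type u} [Field F] {D : ChevalleyDatum}

theorem nG_neg_one (hD : InList D) (r : ℕ) : nG hD r (-1 : F) = (nG hD r 1)⁻¹ := by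
  rw [nG_def, nG_def, mul_inv_rev, mul_inv_rev, xG_inv, xG_inv, inv_one, inv_neg, inv_one, _root_.neg_neg, mul_assoc]

theorem hG_neg_one (hD : InList D) (r : ℕ) : hG hD r (-1 : F) = (nG hD r 1 * nG hD r 1)⁻¹ := by
  rw [hG_def, nG_neg_one, mul_inv_rev]

/-- orthogonality of the roots `a`, `b` -/
def okOrth (D : ChevalleyDatum) (a b : ℕ) : Bool :=
  okComm D a b && okComm D a (D.neg b) && okComm D (D.neg a) b && okComm D (D.neg a) (D.neg b)

theorem nG_comm (hD : InList D) {a b : ℕ} (h : okOrth D a b = true) (t u : F) :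
    Commute (nG hD a t) (nG hD b u) := by
  simp only [okOrth, Bool.and_eq_true] at h
  obtain ⟨⟨⟨h1, h2⟩, h3⟩, h4⟩ := h
  rw [nG_def, nG_def]
  have c1 := fun t u : F => (comm_of_ok (F := F) hD h1 t u).symm
  have c2 := fun t u : F => (comm_of_ok (F := F) hD h2 t u).symm
  have c3 := fun t u : F => (comm_of_ok (F := F) hD h3 t u).symm
  have c4 := fun t u : F => (comm_of_ok (F := F) hD h4 t u).symm
  refine Commute.mul_left ?_ (Commute.mul_left ?_ ?_) <;> refine Commute.mul_right ?_ (Commute.mul_right ?_ ?_)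
  · exact c1 _ _
  · exact c2 _ _
  · exact c1 _ _
  · exact c3 _ _
  · exact c4 _ _
  · exact c3 _ _
  · exact c1 _ _
  · exact c2 _ _
  · exact c1 _ _

theorem hI_one_mem (hD : InList D) {j : ℕ} {G : Subgroup (GL D.Idx F)} (h : nG hD (D.simple j) (1 : F) ∈ G) :
    hI hD F [j] ∈ G := by
  rw [show hI hD F [j] = hG hD (D.simple j) (-1) by simp [hI], hG_neg_one]
  exact inv_mem (mul_mem h h)

theorem hI_three_mem (hD : InList D) {i j k : ℕ} {G : Subgroup (GL D.Idx F)}
    (h : nG hD (D.simple i) (1 : F) * (nG hD (D.simple j) 1 * nG hD (D.simple k) 1) ∈ G)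
    (h1 : okOrth D (D.simple i) (D.simple j) = true) (h2 : okOrth D (D.simple i) (D.simple k) = true)
    (h3 : okOrth D (D.simple j) (D.simple k) = true) : hI hD F [i, j, k] ∈ G := by
  have c1 : nG hD (D.simple i) (1 : F) * nG hD (D.simple j) 1 = nG hD (D.simple j) 1 * nG hD (D.simple i) 1 :=
    nG_comm hD h1 1 1
  have c2 : nG hD (D.simple i) (1 : F) * nG hD (D.simple k) 1 = nG hD (D.simple k) 1 * nG hD (D.simple i) 1 :=
    nG_comm hD h2 1 1
  have c3 : nG hD (D.simple j) (1 : F) * nG hD (D.simple k) 1 = nG hD (D.simple k) 1 * nG hD (D.simple j) 1 :=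
    nG_comm hD h3 1 1
  have e : hI hD F [i, j, k] = hG hD (D.simple i) (-1) * (hG hD (D.simple j) (-1) * hG hD (D.simple k) (-1)) := by
    simp [hI]
  rw [e, hG_neg_one, hG_neg_one, hG_neg_one]
  generalize nG hD (D.simple i) (1 : F) = a at *
  generalize nG hD (D.simple j) (1 : F) = b at *
  generalize nG hD (D.simple k) (1 : F) = c at *
  have e2 : (a * a)⁻¹ * ((b * b)⁻¹ * (c * c)⁻¹) = (a * (b * c) * (a * (b * c)))⁻¹ := by
    have e3 : c * c * (b * b) * (a * a) = a * (b * c) * (a * (b * c)) := by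
      have f1 : Commute a b := c1
      have f2 : Commute a c := c2
      have f3 : Commute b c := c3
      have g1 : c * c * (b * b) = b * b * (c * c) :=
        (((f3.symm.mul_right f3.symm).mul_left (f3.symm.mul_right f3.symm))).eq
      have g2 : b * b * (c * c) * (a * a) = a * a * (b * b * (c * c)) := by
        have h4 : Commute a (b * b * (c * c)) := (f1.mul_right f1).mul_right (f2.mul_right f2)
        exact (h4.mul_left h4).eq.symm
      have g3 : a * (b * c) * (a * (b * c)) = a * a * ((b * c) * (b * c)) := by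
        have h4 : Commute a (b * c) := f1.mul_right f2
        calc a * (b * c) * (a * (b * c)) = a * ((b * c) * a) * (b * c) := by group
          _ = a * (a * (b * c)) * (b * c) := by rw [h4.eq]
          _ = _ := by group
      have g4 : (b * c) * (b * c) = b * b * (c * c) := by
        calc (b * c) * (b * c) = b * (c * b) * c := by group
          _ = b * (b * c) * c := by rw [f3.eq]
          _ = _ := by group
      rw [g1, g2, g3, g4]
    rw [← e3]
    group
  rw [e2]
  exact inv_mem (mul_mem h h)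

end Orth

section Fold

open Cfsg.Agent.Nodes.RGDFold Cfsg.Agent.Nodes.RGDTwGen Cfsg.Agent.ChevalleyStructure.TwistedU
  Cfsg.Agent.ChevalleyStructure.TwistedFix

variable {D : ChevalleyDatum} {l : ℕ} {M' : CoxeterMatrix (Fin l)} {hp : IsType D l M'} {K : Type} [Field K]
  [Finite K] {m : ℕ} {M : CoxeterMatrix (Fin m)} {W : Type} [Group W] (cs : CoxeterSystem M W)
  {A : Fin m → Fin m → ℤ} (h : IsCartan M A) {J : Fin m → List (Fin l)} {L : List (List ℕ)}
  {σ : GL D.Idx K →* GL D.Idx K} {ρ ρ' : ℕ → ℕ} {f : ℕ → K → K} {G : Subgroup (GL D.Idx K)}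
  (FD : FoldData D M A J L) (FG : FoldGrp hp K J L σ ρ ρ' f G) {p : ℕ} [Fact p.Prime] [CharP K p]

include cs h FD FG in
/-- **The groups obtained by folding.** -/
theorem fold (hp2 : p ≠ 2) (hM : ∀ σ : Equiv.Perm (Fin m), (∀ i j, M (σ i) (σ j) = M i j) → σ ^ 2 = 1)
    {r s k : ℕ} {o : List ℕ} (h1 : okHigh D k = true) (h2 : okQuad D r s k o = true)
    (hr : [r] ∈ L) (hs : [s] ∈ L) (hk : [k] ∈ L) (ho : hI hp.inList K o ∈ G) : QRow p ↥G := by
  have hfin := Nodes.RGDFold.finite_W (hp := hp) cs h FD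
  have hD := hp.inList
  simp only [okHigh, Bool.and_eq_true, Bool.or_eq_true, decide_eq_true_eq, List.all_eq_true, List.mem_range] at h1
  obtain ⟨-, hall⟩ := h1
  have hfl : ∀ {i : ℕ}, [i] ∈ L → i ∈ L.flatten := fun hi => List.mem_flatten.2 ⟨_, hi, List.mem_singleton_self _⟩
  have hR : ∀ {i : ℕ}, [i] ∈ L → ∀ x : GL D.Idx K, x ∈ R D hp K J σ (V D J i) ↔
      (∃ v : K, x = xG hD i v) ∧ σ x = x := by
    intro i hi x
    have e : {j | j < D.nroots ∧ V D J j = V D J i} = {j | j ∈ [i]} := by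
      ext j
      constructor
      · rintro ⟨h3, h4⟩
        exact (FD.clsL _ hi i (List.mem_singleton_self _) j h3).2 h4
      · intro h3
        have h4 : j = i := List.mem_singleton.1 h3
        subst h4
        exact ⟨FD.ltL (hfl hi), rfl⟩
    have e2 : R D hp K J σ (V D J i) = rspan (xG hD) {j | j ∈ [i]} ⊓ fixS σ := by
      show rspan _ _ ⊓ _ = _
      rw [e]
    rw [e2, Subgroup.mem_inf]
    have e3 : x ∈ rspan (xG (F := K) hD) {j | j ∈ [i]} ↔ ∃ v : K, x = xG hD i v := by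
      constructor
      · intro hx
        have hle : rspan (xG (F := K) hD) {j | j ∈ [i]} ≤ D.rootSubgroup K i := by
          refine rspan_le _ ?_
          intro j hj t
          have h4 : j = i := List.mem_singleton.1 hj
          subst h4
          exact xG_mem_rootSubgroup hD _ t
        exact (mem_rootSubgroup_iff hD _ _).1 (hle hx)
      · rintro ⟨v, rfl⟩
        exact mem_rspan (xG (F := K) hD) (S := {j | j ∈ [i]}) (List.mem_singleton_self i) v
    rw [e3]
    exact Iff.rfl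
  have hroot : ∀ {i : ℕ}, i ∈ L.flatten → IsRoot cs h (V D J i) := fun hi =>
    (FD.isRoot_iff (cs := cs) (h := h) hp.checked (fun i r hr => wp_lt hp (J i) hr) _).2 ⟨_, FD.ltL hi, rfl⟩
  have hRG : ∀ {z : Fin m → ℤ}, IsRoot cs h z → R D hp K J σ z ≤ G := fun hz => Nodes.RGDFold.R_le cs h FD FG p hz
  refine qrow_of_rgd (Nodes.RGDFold.rgd cs h FD FG p) hp2 (Nodes.RGDFold.G1_eq_top cs h FD FG p) hM
    (r := V D J k) (hroot (hfl hk)) ?_ ?_
  · intro w hw x hx
    obtain ⟨⟨v, hv⟩, -⟩ := (hR hk x).1 hx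
    have hle : RGD.Sup (fun z => (R D hp K J σ z).subgroupOf G) (RGD.Pos cs h) ≤
        Subgroup.centralizer ({x} : Set ↥G) := by
      refine RGD.Sup_le fun z hz => ?_
      intro y hy
      have hy' : (y : GL D.Idx K) ∈ R D hp K J σ z := hy
      have hle2 : rspan (xG (F := K) hD) {j | j < D.nroots ∧ V D J j = z} ≤
          Subgroup.centralizer ({xG hD k v} : Set (GL D.Idx K)) := by
        refine rspan_le _ ?_
        rintro j ⟨hj, rfl⟩ t
        have hjL : j ∈ L.flatten := (FD.posL j hj).2 fun i => hz.2 i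
        rw [Subgroup.mem_centralizer_singleton_iff]
        rcases hall j hj with (h4 | h4) | h4
        · exact absurd (FD.isPos j hjL) h4
        · subst h4
          rw [xG_add, xG_add, add_comm]
        · exact (comm_of_ok hD h4 _ _).eq.symm
      rw [Subgroup.mem_centralizer_singleton_iff]
      apply Subtype.ext
      rw [Subgroup.coe_mul, Subgroup.coe_mul, hv]
      exact Subgroup.mem_centralizer_singleton_iff.1 (hle2 hy'.1)
    exact Subgroup.mem_centralizer_singleton_iff.1 (hle hw)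
  · intro z hz hz1
    obtain ⟨⟨v, hv⟩, hzσ⟩ := (hR hk z).1 hz
    obtain ⟨c, hc1, hc⟩ := one_of_ok (F := K) hD (r := r) (s := s) (k := k) (by
      simp only [okQuad, Bool.and_eq_true] at h2
      exact h2.1.1.1.1.1.1)
    have hc2 : c * c = 1 := by rcases hc1 with rfl | rfl <;> norm_num
    have hc0 : c ≠ 0 := by rcases hc1 with rfl | rfl <;> norm_num
    -- a fixed element of `X_s`
    obtain ⟨a, ha0, ha⟩ : ∃ a : K, a ≠ 0 ∧ xG hD s a ∈ R D hp K J σ (V D J s) := by
      have h3 := Nodes.Bruhat.X_ne_bot (Nodes.RGDFold.rgd cs h FD FG p) (hroot (hfl hs))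
      obtain ⟨⟨x, hx⟩, hx1⟩ := Subgroup.ne_bot_iff_exists_ne_one.1 h3
      have hx' : (x : GL D.Idx K) ∈ R D hp K J σ (V D J s) := hx
      obtain ⟨⟨a, ha⟩, -⟩ := (hR hs x).1 hx'
      refine ⟨a, ?_, by rw [← ha]; exact hx'⟩
      rintro rfl
      apply hx1
      apply Subtype.ext
      apply Subtype.ext
      rw [ha, xG_zero]
      rfl
    have haσ : σ (xG hD s a) = xG hD s a := ((hR hs _).1 ha).2
    -- the fixed element of `X_r`
    have e1 : (z : GL D.Idx K) = ⁅xG hD s a, xG hD r (c * (v / a))⁆ := by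
      rw [hc, hv]
      congr 1
      field_simp
      linear_combination (-v) * hc2
    have hρ : ρ r = r := by
      have h4 := (FG.setup.perm _ hr).subset (a := ρ r) (by simp)
      exact List.mem_singleton.1 h4
    have hbσ : σ (xG hD r (c * (v / a))) = xG hD r (c * (v / a)) := by
      have h4 := FG.setup.hσ r (hfl hr) (c * (v / a))
      rw [hρ] at h4
      rw [h4]
      have h5 := congrArg σ e1
      rw [map_commutatorElement, haσ, h4, hzσ, e1, hc, hc] at h5
      have h6 := xG_injective hD (FD.ltL (hfl hk)) h5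
      have h7 := mul_left_cancel₀ hc0 h6
      have h8 := mul_left_cancel₀ ha0 h7
      rw [← h8]
    have hb : xG hD r (c * (v / a)) ∈ R D hp K J σ (V D J r) := (hR hr _).2 ⟨⟨_, rfl⟩, hbσ⟩
    have h3 := quad_of_ok (p := p) hD h2 (H := G) (hRG (hroot (hfl hs)) ha) (hRG (hroot (hfl hr)) hb) ho
    rw [← e1] at h3
    exact quad_subtype h3 z.2

end Fold

section Rows

open Cfsg.Agent.BpExc.RowsUntw

variable {K : Type} [Field K] [Finite K] {p : ℕ} [Fact p.Prime] [CharP K p]

theorem sym_G2 (σ : Equiv.Perm (Fin 2)) (_ : ∀ i j, CoxeterMatrix.G₂ (σ i) (σ j) = CoxeterMatrix.G₂ i j) :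
    σ ^ 2 = 1 := (by decide : ∀ σ : Equiv.Perm (Fin 2), σ ^ 2 = 1) σ

theorem g2 (hp2 : p ≠ 2) : QRow p ↥(chevG2.group K) :=
  chev g2T hp2 sym_G2 (r := 6) (s := 10) (k := 11) (o := [0]) (by decide +kernel) (by decide +kernel)

theorem f4 (hp2 : p ≠ 2) : QRow p ↥(chevF4.group K) :=
  chev f4T hp2 OddHalf.Quat.NoThreeE.sym_F4 (r := 24) (s := 46) (k := 47) (o := [2]) (by decide +kernel)
    (by decide +kernel)

theorem e6 (hp2 : p ≠ 2) : QRow p ↥(chevE6.group K) :=
  chev e6T hp2 OddHalf.Quat.NoThreeE.sym_E6 (r := 46) (s := 70) (k := 71) (o := [3]) (by decide +kernel)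
    (by decide +kernel)

theorem e7 (hp2 : p ≠ 2) : QRow p ↥(chevE7.group K) :=
  chev e7T hp2 OddHalf.Quat.NoThreeE.sym_E7 (r := 93) (s := 124) (k := 125) (o := [2]) (by decide +kernel)
    (by decide +kernel)

theorem e8 (hp2 : p ≠ 2) : QRow p ↥(chevE8.group K) :=
  chev e8T hp2 OddHalf.Quat.NoThreeE.sym_E8 (r := 120) (s := 238) (k := 239) (o := [6]) (by decide +kernel)
    (by decide +kernel)

end Rows

section Tw

variable {K : Type} [Field K] [Fintype K] {p : ℕ} [Fact p.Prime] [CharP K p] {q : ℕ}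

theorem twE6 (hp2 : p ≠ 2) (hq : IsPrimePow q) (hK : Fintype.card K = q ^ 2) : QRow p ↥(twistedE6 K q) := by
  obtain ⟨φ, hφ, hqq⟩ := TwE6Basic.exists_frob hq hK
  have FG := Nodes.RGDTwE6.foldGrp hφ hqq
  have h1 : Nodes.RGDFold.nI Nodes.RGDTwE6.hp K (Nodes.RGDTwE6.J 1) ∈ twistedE6 K q := FG.nG 1
  have h2 : Nodes.RGDFold.nI Nodes.RGDTwE6.hp K (Nodes.RGDTwE6.J 1) = nG Nodes.RGDTwE6.hp.inList (chevE6.simple 3) 1 :=
    mul_one _
  rw [h2] at h1
  exact fold CoxeterMatrix.F₄.toCoxeterSystem Nodes.RGDTwE6.isCartan Nodes.RGDTwE6.foldData FG hp2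
    OddHalf.Quat.NoThreeE.sym_F4 (r := 46) (s := 70) (k := 71) (o := [3]) (by decide +kernel) (by decide +kernel)
    (by decide +kernel) (by decide +kernel) (by decide +kernel) (hI_one_mem _ h1)

theorem twD4 (hp2 : p ≠ 2) (hq : IsPrimePow q) (hK : Fintype.card K = q ^ 3) : QRow p ↥(twistedD4 K q) := by
  obtain ⟨φ, hφ⟩ := D4Fixed.exists_frob hq hK
  have FG := Nodes.RGDTwD4.foldGrp hφ (D4Fixed.twisted_le_fix hK hφ)
  have h1 : Nodes.RGDFold.nI Nodes.RGDTwD4.hp K (Nodes.RGDTwD4.J 1) ∈ twistedD4 K q := FG.nG 1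
  have h2 : Nodes.RGDFold.nI Nodes.RGDTwD4.hp K (Nodes.RGDTwD4.J 1) = nG Nodes.RGDTwD4.hp.inList (chevD4.simple 0) 1 *
      (nG Nodes.RGDTwD4.hp.inList (chevD4.simple 2) 1 * nG Nodes.RGDTwD4.hp.inList (chevD4.simple 3) 1) := by
    show nG Nodes.RGDTwD4.hp.inList (chevD4.simple 0) (1 : K) *
      (nG Nodes.RGDTwD4.hp.inList (chevD4.simple 2) 1 * (nG Nodes.RGDTwD4.hp.inList (chevD4.simple 3) 1 * 1)) = _
    rw [mul_one]
  rw [h2] at h1
  exact fold CoxeterMatrix.G₂.toCoxeterSystem Nodes.RGDTwD4.isCartan Nodes.RGDTwD4.foldData FG hp2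
    sym_G2 (r := 14) (s := 22) (k := 23) (o := [0, 2, 3]) (by decide +kernel) (by decide +kernel)
    (by decide +kernel) (by decide +kernel) (by decide +kernel)
    (hI_three_mem _ h1 (by decide +kernel) (by decide +kernel) (by decide +kernel))

end Tw

/-- **The exceptional groups.** -/
theorem of_exceptional {p : ℕ} [Fact p.Prime] (hp2 : p ≠ 2) {L : Type u} [Group L] [Finite L]
    (h : IsExceptionalChevChar p L) : QRow p L := by
  obtain ⟨F, _, _, _, hF⟩ := h
  rcases hF with ⟨-, ⟨e⟩⟩ | ⟨⟨e⟩⟩ | ⟨⟨e⟩⟩ | ⟨⟨e⟩⟩ | ⟨⟨e⟩⟩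
  · exact (g2 hp2).congr e.symm
  · exact (f4 hp2).congr e.symm
  · exact (e6 hp2).congr e.symm
  · exact (e7 hp2).congr e.symm
  · exact (e8 hp2).congr e.symm

theorem of_twisted {p : ℕ} [Fact p.Prime] (hp2 : p ≠ 2) {L : Type u} [Group L] [Finite L]
    (h : IsTwistedE6D4Char p L) : QRow p L := by
  obtain ⟨K, _, _, _, q, hq, ⟨hc, ⟨e⟩⟩ | ⟨hc, ⟨e⟩⟩⟩ := h
  · have : Finite ↥(twistedE6 K q) := Finite.of_equiv _ e.toEquiv
    exact (twE6 hp2 hq hc).congr e.symm
  · have : Finite ↥(twistedD4 K q) := Finite.of_equiv _ e.toEquiv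
    exact (twD4 hp2 hq hc).congr e.symm

end Cfsg.Agent.H240.QuadExc
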