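import Cfsg.Agent.H240.QuadRow
import Cfsg.Agent.OddHalf.Quat.NoThreeE

/-!
# Central root groups of a root group datum (helper240)

* `fix_X` : an automorphism of `p`-power order (`p` odd) fixing `U` fixes a root group `X r` centralised by `U`, if the
  diagram symmetries have order at most 2;
* `qrow_of_rgd` : `QRow p Y`, if all non-trivial elements of `X r` have `Quad p ⊤`.
-/

set_option autoImplicit false
set_option linter.unusedSectionVars false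

namespace Cfsg.Agent.H240.QuadRgd

open CoxeterSystem Cfsg.Agent.ChevalleyStructure.CoxeterGeom Cfsg.Agent.Tits.Roots Cfsg.Agent.Tits.Core
  Cfsg.Agent.Tits.Exchange Cfsg.Agent.Nodes.Reps Cfsg.Agent.Nodes.BNOf Cfsg.Agent.Nodes.StabComb
  Cfsg.Agent.Nodes.Bruhat Cfsg.Agent.Nodes.OppDec Cfsg.Agent.Nodes.LeviDec Cfsg.Agent.Nodes.NormalForm
  Cfsg.Agent.KFacts.RgdOpp Cfsg.Agent.KFacts.RgdAut Cfsg.Agent.KFacts.RgdDiag Cfsg.Agent.KFacts.RgdRigid
  Cfsg.Agent.KFacts.RgdEx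
open Cfsg.Agent.H238 (Quad)
open Cfsg.Agent.H240.QuadRow

variable {I W Y : Type*} [Fintype I] [DecidableEq I] [Group W] [Group Y] {M : CoxeterMatrix I}
  {cs : CoxeterSystem M W} {A : I → I → ℤ} {h : IsCartan M A} {p : ℕ} {T : Subgroup Y} {n : I → Y}
  {X : (I → ℤ) → Subgroup Y}

theorem perm_eq_one (R : RGD cs h p T n X) [Finite W] {τ : Equiv.Perm I} (D : Diag T X (1 : MulAut Y) τ) : τ = 1 := by
  ext i
  rw [Equiv.Perm.one_apply]
  have h1 : X (sr (τ i)) = X (sr i) := by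
    ext x
    exact D.pos i x
  have h2 := X_injective R (isRoot_sr cs h (τ i)) (isRoot_sr cs h i) h1
  by_contra hne
  have h3 := congrFun h2 (τ i)
  rw [sr_self, sr_ne hne] at h3
  exact one_ne_zero h3

theorem fix_X (R : RGD cs h p T n X) [Finite W] [hpp : Fact p.Prime] (hp2 : p ≠ 2)
    (hG1 : RGD.Sup X {x | IsRoot cs h x} = ⊤)
    (hM : ∀ σ : Equiv.Perm I, (∀ i j, M (σ i) (σ j) = M i j) → σ ^ 2 = 1)
    {α : MulAut Y} (hα : Fix α (RGD.Sup X (RGD.Pos cs h))) (hk : ∃ k, α ^ p ^ k = 1) {r : I → ℤ}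
    (hr : IsRoot cs h r) (hc : ∀ u ∈ RGD.Sup X (RGD.Pos cs h), ∀ x ∈ X r, u * x = x * u) {x : Y} (hx : x ∈ X r) :
    α x ∈ X r := by
  obtain ⟨k, hk⟩ := hk
  obtain ⟨u, hu, hU, hUN, hpow, σ, D⟩ := exists_frame_pow R (GG_eq_top hG1) hα
  have h1 := hpow _ hk
  have D' := D.pow (p ^ k)
  rw [h1] at D'
  have h2 := perm_eq_one R D'
  have h3 : σ ^ 2 = 1 := hM σ fun i j => Diag.matrix R D i j
  have hσ : σ = 1 := by
    obtain ⟨m, hm⟩ := (hpp.out.odd_of_ne_two hp2).pow (n := k)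
    rw [hm, pow_succ, pow_mul, h3, one_pow, one_mul] at h2
    exact h2
  subst hσ
  have h4 : (MulAut.conj u * α) x ∈ X r := (D.root_comp R (fun _ _ => rfl) hr x).2 hx
  have h5 : α x = u⁻¹ * (MulAut.conj u * α) x * u := by
    rw [MulAut.mul_apply, MulAut.conj_apply]; group
  have h6 := hc _ (inv_mem hu) _ h4
  rw [h5, h6]
  have h7 : (MulAut.conj u * α) x * u⁻¹ * u = (MulAut.conj u * α) x := by group
  rw [h7]
  exact h4

theorem qrow_of_rgd (R : RGD cs h p T n X) [Finite W] [Finite Y] [hpp : Fact p.Prime] (hp2 : p ≠ 2)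
    (hG1 : RGD.Sup X {x | IsRoot cs h x} = ⊤)
    (hM : ∀ σ : Equiv.Perm I, (∀ i j, M (σ i) (σ j) = M i j) → σ ^ 2 = 1) {r : I → ℤ}
    (hr : IsRoot cs h r) (hc : ∀ u ∈ RGD.Sup X (RGD.Pos cs h), ∀ x ∈ X r, u * x = x * u)
    (hq : ∀ z ∈ X r, z ≠ 1 → Quad p (⊤ : Subgroup Y) z) : QRow p Y := by
  obtain ⟨S, hS⟩ := OddHalf.Quat.NoThreeE.exists_syl R (GG_eq_top hG1)
  have hmem : ∀ x, x ∈ S ↔ x ∈ RGD.Sup X (RGD.Pos cs h) := by
    intro x
    rw [← hS]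
    rfl
  refine ⟨S, X r, X_ne_bot R hr, R.pgrp' hr, ?_, ?_, fun z hz h1 _ => hq z hz h1⟩
  · intro u hu z hz
    exact hc u ((hmem u).1 hu) z hz
  · intro α hk hα z hz
    refine fix_X R hp2 hG1 hM (α := α) ?_ hk hr hc hz
    intro x
    rw [← hmem, ← hmem]
    exact hα x

end Cfsg.Agent.H240.QuadRgd
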