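import Cfsg.Agent.H238.Quad
import Cfsg.Agent.H573.PCent

/-!
# A central element with `Quad` fixed by a Sylow subgroup (helper240)

* `QRow p L` : `L` has a Sylow `p`-subgroup `U` and a nontrivial `p`-subgroup `Z` centralised by `U`, invariant under the
  automorphisms of `p`-power order fixing `U`, all whose elements of order `p` have `Quad p ⊤`;
* `QRow.of_center` : enough that the elements of order `p` centralised by `U` have `Quad p ⊤`;
* `QRow.congr` : transport;
* `exists_quad_of_row` : if `QRow p L` and the Sylow `p`-subgroup `P` of `K` normalises `L`, then some `z ∈ L` of order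
  `p` centralised by `P` has `Quad p L z`.
-/

set_option autoImplicit false

namespace Cfsg.Agent.H240.QuadRow

open Subgroup
open Cfsg.Agent.H238 (Quad)
open scoped commutatorElement

universe u v

/-- see the header -/
def QRow (p : ℕ) (L : Type u) [Group L] : Prop :=
  ∃ (U : Sylow p L) (Z : Subgroup L), Z ≠ ⊥ ∧ IsPGroup p Z ∧ (∀ u ∈ U, ∀ z ∈ Z, u * z = z * u) ∧
    (∀ α : MulAut L, (∃ k : ℕ, α ^ p ^ k = 1) → (∀ x, α x ∈ U ↔ x ∈ U) → ∀ z ∈ Z, α z ∈ Z) ∧
    ∀ z ∈ Z, z ≠ 1 → z ^ p = 1 → Quad p (⊤ : Subgroup L) z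

/-- `Quad` and homomorphisms -/
theorem quad_map {p : ℕ} {K : Type u} {K' : Type v} [Group K] [Group K'] (f : K →* K') {L : Subgroup K}
    {L' : Subgroup K'} (hL : ∀ x ∈ L, f x ∈ L') {z : K} (h : Quad p L z) : Quad p L' (f z) := by
  obtain ⟨x, hx, y, hy, h, hh, h1, h2, h3, h4, h5, h6, h7, h8⟩ := h
  refine ⟨f x, hL x hx, f y, hL y hy, f h, hL h hh, ?_, ?_, ?_, h4.map f, h5.map f, h6.map f, ?_, ?_⟩
  · rw [← map_pow, h1, map_one]
  · rw [← map_pow, h2, map_one]
  · rw [h3, map_commutatorElement]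
  · rw [← map_inv, ← map_mul, ← map_mul, h7, map_inv]
  · rw [← map_inv, ← map_mul, ← map_mul, h8, map_inv]

/-- The center form. -/
theorem QRow.of_center {p : ℕ} [hp : Fact p.Prime] {L : Type u} [Group L] [Finite L] (hL : p ∣ Nat.card L)
    (U : Sylow p L)
    (h : ∀ z : L, z ≠ 1 → z ^ p = 1 → (∀ u ∈ U, u * z = z * u) → Quad p (⊤ : Subgroup L) z) : QRow p L := by
  have hU : (U : Subgroup L) ≠ ⊥ := U.ne_bot_of_dvd_card hL
  have hnt : Nontrivial ↥(U : Subgroup L) := (Subgroup.nontrivial_iff_ne_bot _).2 hU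
  have hc : Nontrivial (center ↥(U : Subgroup L)) := U.isPGroup'.center_nontrivial
  refine ⟨U, (center ↥(U : Subgroup L)).map (U : Subgroup L).subtype, ?_, ?_, ?_, ?_, ?_⟩
  · intro h0
    rw [(Subgroup.map_eq_bot_iff_of_injective _ (U : Subgroup L).subtype_injective)] at h0
    exact (Subgroup.nontrivial_iff_ne_bot _).1 hc h0
  · exact (U.isPGroup'.to_subgroup _).map _
  · rintro u hu _ ⟨z, hz, rfl⟩
    exact congrArg Subtype.val (Subgroup.mem_center_iff.1 hz ⟨u, hu⟩)
  · rintro α - hα _ ⟨z, hz, rfl⟩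
    refine ⟨⟨α z, (hα _).2 z.2⟩, ?_, rfl⟩
    show _ ∈ center ↥(U : Subgroup L)
    rw [Subgroup.mem_center_iff]
    rintro ⟨u, hu⟩
    apply Subtype.ext
    show u * α z = α z * u
    have hu' : α.symm u ∈ U := by
      rw [← hα]
      show α (α.symm u) ∈ U
      rw [MulEquiv.apply_symm_apply]
      exact hu
    have h1 : α.symm u * (z : L) = z * α.symm u := congrArg Subtype.val (Subgroup.mem_center_iff.1 hz ⟨_, hu'⟩)
    have h2 := congrArg α h1
    rwa [map_mul, map_mul, MulEquiv.apply_symm_apply] at h2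
  · rintro _ ⟨z, hz, rfl⟩ h1 h2
    exact h _ h1 h2 fun u hu => congrArg Subtype.val (Subgroup.mem_center_iff.1 hz ⟨u, hu⟩)

/-- transport along an isomorphism -/
theorem QRow.congr {p : ℕ} [hp : Fact p.Prime] {L : Type u} {L' : Type v} [Group L] [Group L'] [Finite L]
    (e : L ≃* L') (h : QRow p L) : QRow p L' := by
  obtain ⟨U, Z, h1, h2, h3, h4, h5⟩ := h
  have hs : Function.Surjective e.toMonoidHom := e.surjective
  have hmem : ∀ x : L', x ∈ U.mapSurjective hs ↔ e.symm x ∈ U := by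
    intro x
    show x ∈ ((U.mapSurjective hs : Sylow p L') : Subgroup L') ↔ _
    rw [Sylow.coe_mapSurjective, Subgroup.mem_map]
    constructor
    · rintro ⟨y, hy, rfl⟩
      show e.symm (e y) ∈ U
      rw [MulEquiv.symm_apply_apply]
      exact hy
    · intro hx
      exact ⟨e.symm x, hx, e.apply_symm_apply x⟩
  refine ⟨U.mapSurjective hs, Z.map e.toMonoidHom, ?_, h2.map _, ?_, ?_, ?_⟩
  · intro h0
    rw [(Subgroup.map_eq_bot_iff_of_injective _ e.injective)] at h0
    exact h1 h0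
  · rintro u hu _ ⟨z, hz, rfl⟩
    have h6 := congrArg e (h3 _ ((hmem u).1 hu) z hz)
    rw [map_mul, map_mul, MulEquiv.apply_symm_apply] at h6
    exact h6
  · rintro α ⟨k, hk⟩ hα _ ⟨z, hz, rfl⟩
    have h6 : (MulAut.congr e.symm α) ^ p ^ k = 1 := by rw [← map_pow, hk, map_one]
    have h7 := h4 (MulAut.congr e.symm α) ⟨k, h6⟩ (fun x => ?_) z hz
    · have h8 : (MulAut.congr e.symm α) z = e.symm (α (e z)) := rfl
      rw [h8] at h7
      exact ⟨_, h7, e.apply_symm_apply _⟩
    · have h8 : (MulAut.congr e.symm α) x = e.symm (α (e x)) := rfl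
      rw [h8, ← hmem, hα, hmem, MulEquiv.symm_apply_apply]
  · rintro _ ⟨z, hz, rfl⟩ h6 h7
    refine quad_map e.toMonoidHom (fun x _ => Subgroup.mem_top _) (h5 z hz ?_ ?_)
    · rintro rfl
      exact h6 (map_one _)
    · apply e.injective
      rw [map_pow, map_one]
      exact h7

/-- A `p`-group normalising a nontrivial `p`-group centralises an element of order `p`. -/
theorem exists_fixed {p : ℕ} [hp : Fact p.Prime] {K : Type u} [Group K] [Finite K] {P Z : Subgroup K}
    (hP : IsPGroup p P) (hZ : IsPGroup p Z) (hZ1 : Z ≠ ⊥) (hn : P ≤ normalizer (Z : Set K)) :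
    ∃ z ∈ Z, orderOf z = p ∧ P ≤ centralizer ({z} : Set K) := by
  -- the subgroup of fixed points
  let C : Subgroup K := Z ⊓ centralizer (P : Set K)
  have hC : C ≠ ⊥ := by
    intro h0
    let _ : MulAction ↥P ↥Z :=
      { smul := fun a z => ⟨(a : K) * z * (a : K)⁻¹, (mem_normalizer_iff.1 (hn a.2) z).1 z.2⟩
        one_smul := fun z => by
          apply Subtype.ext
          show ((1 : ↥P) : K) * z * ((1 : ↥P) : K)⁻¹ = z
          simp
        mul_smul := fun a b z => by
          apply Subtype.ext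
          show ((a * b : ↥P) : K) * z * ((a * b : ↥P) : K)⁻¹ = a * (b * z * (b : K)⁻¹) * (a : K)⁻¹
          rw [Subgroup.coe_mul]
          group }
    have h1 := hP.card_modEq_card_fixedPoints ↥Z
    have h2 : p ∣ Nat.card ↥Z := by
      have := (Subgroup.nontrivial_iff_ne_bot _).2 hZ1
      obtain ⟨n, hn0, hn⟩ := (IsPGroup.nontrivial_iff_card hZ).1 this
      rw [hn]
      exact dvd_pow_self p hn0.ne'
    have h3 : Nat.card (MulAction.fixedPoints ↥P ↥Z) = 1 := by
      rw [Nat.card_eq_one_iff_unique]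
      refine ⟨⟨fun x y => ?_⟩, ⟨⟨1, fun a => ?_⟩⟩⟩
      · have key : ∀ x : MulAction.fixedPoints ↥P ↥Z, ((x : ↥Z) : K) = 1 := by
          rintro ⟨x, hx⟩
          have h4 : ((x : ↥Z) : K) ∈ C := by
            refine ⟨x.2, ?_⟩
            refine mem_centralizer_iff.2 fun a ha => ?_
            have h5 : a * (x : K) * a⁻¹ = x := congrArg Subtype.val (hx ⟨a, ha⟩)
            calc a * (x : K) = a * (x : K) * a⁻¹ * a := by group
              _ = x * a := by rw [h5]
          rw [h0, Subgroup.mem_bot] at h4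
          exact h4
        apply Subtype.ext
        apply Subtype.ext
        rw [key x, key y]
      · apply Subtype.ext
        show (a : K) * ((1 : ↥Z) : K) * (a : K)⁻¹ = ((1 : ↥Z) : K)
        simp
    rw [h3] at h1
    have h4 : (0 : ℕ) ≡ 1 [MOD p] := ((Nat.modEq_zero_iff_dvd.2 h2).symm).trans h1
    have h5 := (Nat.modEq_iff_dvd' (Nat.zero_le 1)).1 h4
    exact hp.out.one_lt.ne' (Nat.dvd_one.1 (by simpa using h5))
  have hCp : IsPGroup p ↥C := hZ.to_le inf_le_left
  have := (Subgroup.nontrivial_iff_ne_bot _).2 hC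
  obtain ⟨n, hn0, hn⟩ := (IsPGroup.nontrivial_iff_card hCp).1 this
  obtain ⟨z, hz⟩ := exists_prime_orderOf_dvd_card' (G := ↥C) p (by rw [hn]; exact dvd_pow_self p hn0.ne')
  refine ⟨z, z.2.1, by rw [← hz, Subgroup.orderOf_coe], ?_⟩
  intro a ha
  rw [mem_centralizer_singleton_iff]
  exact mem_centralizer_iff.1 z.2.2 a ha

/-- **The reduction.** -/
theorem exists_quad_of_row {K : Type u} [Group K] [Finite K] {p : ℕ} [hp : Fact p.Prime] {L : Subgroup K}
    (hrow : QRow p ↥L) (P : Sylow p K) (hP : (P : Subgroup K) ≤ normalizer (L : Set K)) :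
    ∃ z ∈ L, orderOf z = p ∧ (P : Subgroup K) ≤ centralizer ({z} : Set K) ∧ Quad p L z := by
  obtain ⟨U, Z, h1, h2, h3, h4, h5⟩ := hrow
  -- `P ⊓ L` is a Sylow `p`-subgroup of `L`
  obtain ⟨Q, hQ⟩ : ∃ Q : Sylow p ↥L, (Q : Subgroup ↥L) = (P : Subgroup K).subgroupOf L := by
    have hpg : IsPGroup p ((P : Subgroup K).subgroupOf L) := P.isPGroup'.comap_subtype
    have hidx : ¬ p ∣ ((P : Subgroup K).subgroupOf L).index := by
      have h6 : ((P : Subgroup K).subgroupOf (normalizer (L : Set K))).relIndex (L.subgroupOf (normalizer (L : Set K))) =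
          (P : Subgroup K).relIndex L := Subgroup.relIndex_subgroupOf le_normalizer
      have h7 := H573.not_dvd_relIndex_normal (P.subtype hP) (L.subgroupOf (normalizer (L : Set K)))
      rw [Sylow.coe_subtype, h6] at h7
      exact h7
    exact ⟨hpg.toSylow hidx, rfl⟩
  obtain ⟨g, hg⟩ := MulAction.exists_smul_eq ↥L Q U
  -- `U = g (P ∩ L) g⁻¹`
  have hgU : ∀ x : ↥L, x ∈ U ↔ ((g⁻¹ * x * g : ↥L) : K) ∈ P := by
    intro x
    rw [← hg]
    show x ∈ ((g • Q : Sylow p ↥L) : Subgroup ↥L) ↔ _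
    rw [Sylow.coe_subgroup_smul, Subgroup.mem_smul_pointwise_iff_exists]
    constructor
    · rintro ⟨y, hy, rfl⟩
      rw [hQ, Subgroup.mem_subgroupOf] at hy
      have : g⁻¹ * (MulAut.conj g • y) * g = y := by
        show g⁻¹ * (g * y * g⁻¹) * g = y
        group
      rw [this]
      exact hy
    · intro hx
      refine ⟨g⁻¹ * x * g, ?_, ?_⟩
      · rw [hQ, Subgroup.mem_subgroupOf]
        exact hx
      · show g * (g⁻¹ * x * g) * g⁻¹ = x
        group
  -- the automorphisms induced by `P`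
  have hZN : (P : Subgroup K) ≤ normalizer (((Z.map (MulAut.conj g⁻¹).toMonoidHom).map L.subtype : Subgroup K) : Set K) := by
    have key : ∀ a ∈ P, ∀ z ∈ ((Z.map (MulAut.conj g⁻¹).toMonoidHom).map L.subtype : Subgroup K),
        a * z * a⁻¹ ∈ ((Z.map (MulAut.conj g⁻¹).toMonoidHom).map L.subtype : Subgroup K) := by
      rintro a ha _ ⟨_, ⟨z, hz, rfl⟩, rfl⟩
      let c : MulAut ↥L := Subgroup.normalizerMonoidHom L ⟨a, hP ha⟩
      have hc : ∀ y : ↥L, ((c y : ↥L) : K) = a * y * a⁻¹ := fun y => rfl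
      let α : MulAut ↥L := MulAut.conj g * c * (MulAut.conj g)⁻¹
      have hα : ∀ y : ↥L, α y = g * c (g⁻¹ * y * g) * g⁻¹ := by
        intro y
        show g * c ((MulAut.conj g)⁻¹ y) * g⁻¹ = _
        rw [← map_inv, MulAut.conj_apply, inv_inv]
      have hpow : ∃ k : ℕ, α ^ p ^ k = 1 := by
        obtain ⟨k, hk⟩ := P.isPGroup' ⟨a, ha⟩
        refine ⟨k, ?_⟩
        have hk' : a ^ p ^ k = 1 := congrArg Subtype.val hk
        have hc1 : c ^ p ^ k = 1 := by
          show (Subgroup.normalizerMonoidHom L ⟨a, hP ha⟩) ^ p ^ k = 1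
          rw [← map_pow]
          have : (⟨a, hP ha⟩ : ↥(normalizer (L : Set K))) ^ p ^ k = 1 := Subtype.ext hk'
          rw [this, map_one]
        show (MulAut.conj g * c * (MulAut.conj g)⁻¹) ^ p ^ k = 1
        rw [conj_pow, hc1]
        group
      have hfix : ∀ x, α x ∈ U ↔ x ∈ U := by
        intro x
        rw [hgU, hgU, hα]
        have e1 : g⁻¹ * (g * c (g⁻¹ * x * g) * g⁻¹) * g = c (g⁻¹ * x * g) := by group
        rw [e1, hc]
        constructor
        · intro hx
          have := mul_mem (mul_mem (inv_mem ha) hx) ha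
          have e2 : a⁻¹ * (a * ((g⁻¹ * x * g : ↥L) : K) * a⁻¹) * a = ((g⁻¹ * x * g : ↥L) : K) := by group
          rwa [e2] at this
        · intro hx
          exact mul_mem (mul_mem ha hx) (inv_mem ha)
      have h6 := h4 α hpow hfix z hz
      refine ⟨g⁻¹ * α z * g, ⟨α z, h6, ?_⟩, ?_⟩
      · show g⁻¹ * α z * (g⁻¹)⁻¹ = _
        rw [inv_inv]
      · rw [hα]
        have e1 : g⁻¹ * (g * c (g⁻¹ * z * g) * g⁻¹) * g = c (g⁻¹ * z * g) := by group
        rw [e1]
        show ((c (g⁻¹ * z * g) : ↥L) : K) = a * ((g⁻¹ * z * (g⁻¹)⁻¹ : ↥L) : K) * a⁻¹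
        rw [hc, inv_inv]
    intro a ha
    rw [mem_normalizer_iff]
    intro z
    refine ⟨fun hz => key a ha z hz, fun hz => ?_⟩
    have := key a⁻¹ (inv_mem ha) _ hz
    have e2 : a⁻¹ * (a * z * a⁻¹) * a⁻¹⁻¹ = z := by group
    rwa [e2] at this
  have hne : ((Z.map (MulAut.conj g⁻¹).toMonoidHom).map L.subtype : Subgroup K) ≠ ⊥ := by
    intro h0
    rw [(Subgroup.map_eq_bot_iff_of_injective _ L.subtype_injective),
      (Subgroup.map_eq_bot_iff_of_injective _ (MulAut.conj g⁻¹).injective)] at h0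
    exact h1 h0
  obtain ⟨_, ⟨_, ⟨z, hz, rfl⟩, rfl⟩, hord, hcen⟩ := exists_fixed P.isPGroup' ((h2.map _).map _) hne hZN
  refine ⟨_, ((MulAut.conj g⁻¹).toMonoidHom z).2, hord, hcen, ?_⟩
  have hz' : orderOf z = p := by
    rw [← hord]
    show orderOf z = orderOf (L.subtype (MulAut.conj g⁻¹ z))
    rw [orderOf_injective L.subtype L.subtype_injective]
    exact (MulEquiv.orderOf_eq (MulAut.conj g⁻¹) z).symm
  have h6 : Quad p (⊤ : Subgroup ↥L) z := by
    refine h5 z hz ?_ (by rw [← hz', pow_orderOf_eq_one])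
    rintro rfl
    rw [orderOf_one] at hz'
    exact hp.out.one_lt.ne hz'
  exact quad_map (L.subtype.comp (MulAut.conj g⁻¹).toMonoidHom) (fun x _ => ((MulAut.conj g⁻¹) x).2) h6

end Cfsg.Agent.H240.QuadRow
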